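import Cfsg.Agent.Lib.Fischer3T37.Kernel
import Cfsg.Prelude.Def_KGroupFacts

/-!
# `|Aut G| = 2 |G|` from `|Out| = 2` for an isomorphic group
-/

set_option autoImplicit false

namespace Cfsg.Agent.Lib.Fischer3T37

universe u v

theorem card_mulAut_of_card_out {R : Type u} [Group R] (hZ : Subgroup.center R = ⊥)
    (hout : Nat.card (Cfsg.Out R) = 2) : Nat.card (MulAut R) = 2 * Nat.card R := by
  rw [Subgroup.card_eq_card_quotient_mul_card_subgroup (Cfsg.Inn R)]
  rw [show Nat.card (MulAut R ⧸ Cfsg.Inn R) = 2 from hout]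
  congr 1
  exact (Nat.card_congr (MonoidHom.ofInjective (conj_injective_of_center hZ)).toEquiv).symm

theorem card_mulAut_congr {G : Type u} [Group G] {R : Type v} [Group R] (e : G ≃* R)
    (hR : Nat.card (MulAut R) = 2 * Nat.card R) : Nat.card (MulAut G) = 2 * Nat.card G := by
  rw [Nat.card_congr (MulAut.congr e).toEquiv, hR, Nat.card_congr e.toEquiv]

end Cfsg.Agent.Lib.Fischer3T37
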