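import Mathlib
import Cfsg.Prelude.Def_Solvable

/-!
# The automorphism group of a simple group is complete

Used for the centraliser of an inner involution in the automorphism group.
-/

set_option autoImplicit false

namespace Cfsg.Agent.Lib.Fischer3T37

universe u

variable {P : Type u} [Group P]

/-- Conjugation by `α` of the inner automorphism of `x` is the inner automorphism of `α x`. -/
theorem conj_mul_mul (α : MulAut P) (x : P) :
    α * MulAut.conj x * α⁻¹ = MulAut.conj (α x) := by
  refine MulEquiv.ext fun y => ?_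
  simp only [MulAut.mul_apply, MulAut.conj_apply, map_mul, map_inv, MulAut.apply_inv_self]

theorem conj_range_normal : (MulAut.conj : P →* MulAut P).range.Normal :=
  ⟨by rintro _ ⟨x, rfl⟩ α; exact ⟨α x, (conj_mul_mul α x).symm⟩⟩

variable [IsSimpleGroup P]

theorem center_eq_bot (hna : ¬ IsMulCommutative P) : Subgroup.center P = ⊥ := by
  refine (Subgroup.Normal.eq_bot_or_eq_top (inferInstance : (Subgroup.center P).Normal)).resolve_right fun h => ?_
  exact hna ⟨⟨fun a b => (Subgroup.mem_center_iff.1 (h ▸ Subgroup.mem_top b) a)⟩⟩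

theorem conj_injective_of_simple (hna : ¬ IsMulCommutative P) :
    Function.Injective (MulAut.conj : P →* MulAut P) := by
  rw [injective_iff_map_eq_one]
  intro x hx
  have hc : x ∈ Subgroup.center P := Subgroup.mem_center_iff.2 fun y => by
    have h := DFunLike.congr_fun hx y
    rw [MulAut.conj_apply, MulAut.one_apply, mul_inv_eq_iff_eq_mul] at h
    exact h.symm
  rwa [center_eq_bot hna, Subgroup.mem_bot] at hc

/-- An automorphism commuting with all inner automorphisms is trivial. -/
theorem eq_one_of_commute (hna : ¬ IsMulCommutative P) {α : MulAut P}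
    (h : ∀ x : P, Commute α (MulAut.conj x)) : α = 1 := by
  refine MulEquiv.ext fun x => conj_injective_of_simple hna ?_
  rw [← conj_mul_mul, (h x).eq, mul_inv_cancel_right, MulAut.one_apply]

/-- A non-trivial normal subgroup of `Aut P` contains the inner automorphisms. -/
theorem conj_range_le (hna : ¬ IsMulCommutative P) {N : Subgroup (MulAut P)} (hN : N.Normal) (hne : N ≠ ⊥) :
    (MulAut.conj : P →* MulAut P).range ≤ N := by
  rcases Subgroup.Normal.eq_bot_or_eq_top (hN.comap (MulAut.conj : P →* MulAut P)) with h | h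
  · refine absurd (eq_bot_iff.2 fun α hα => Subgroup.mem_bot.2 (eq_one_of_commute hna fun x => ?_)) hne
    have hm : MulAut.conj ((α x) * x⁻¹) ∈ N := by
      rw [map_mul, map_inv, ← conj_mul_mul,
        show α * MulAut.conj x * α⁻¹ * (MulAut.conj x)⁻¹ =
          α * (MulAut.conj x * α⁻¹ * (MulAut.conj x)⁻¹) from by group]
      exact N.mul_mem hα (hN.conj_mem _ (N.inv_mem hα) _)
    have h1 : α x * x⁻¹ ∈ N.comap (MulAut.conj : P →* MulAut P) := hm
    rw [h, Subgroup.mem_bot, mul_inv_eq_one] at h1
    have h2 := conj_mul_mul α x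
    rw [h1, mul_inv_eq_iff_eq_mul] at h2
    exact h2
  · rintro _ ⟨x, rfl⟩
    exact (Subgroup.mem_comap).1 (h ▸ Subgroup.mem_top x)

theorem center_mulAut_eq_bot (hna : ¬ IsMulCommutative P) : Subgroup.center (MulAut P) = ⊥ :=
  eq_bot_iff.2 fun _ hα => Subgroup.mem_bot.2
    (eq_one_of_commute hna fun x => (Subgroup.mem_center_iff.1 hα (MulAut.conj x)).symm)

/-- Every automorphism of `Aut P` is inner. -/
theorem exists_eq_conj [Finite P] (hna : ¬ IsMulCommutative P) (γ : MulAut (MulAut P)) :
    ∃ β : MulAut P, γ = MulAut.conj β := by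
  classical
  set I := (MulAut.conj : P →* MulAut P).range with hI
  haveI : Finite (MulAut P) := Finite.of_injective (fun α => (α : P → P)) DFunLike.coe_injective
  have hmap : I.map γ.toMonoidHom = I := by
    have hn : (I.map γ.toMonoidHom).Normal :=
      conj_range_normal.map _ (fun y => ⟨γ.symm y, γ.apply_symm_apply y⟩)
    have hne : I.map γ.toMonoidHom ≠ ⊥ := by
      rw [Ne, Subgroup.map_eq_bot_iff_of_injective _ γ.injective]
      intro h
      refine (fun h' => hna h') ⟨⟨fun a b => conj_injective_of_simple hna ?_⟩⟩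
      rw [Subgroup.mem_bot.1 (h ▸ ⟨a * b, rfl⟩ : MulAut.conj (a * b) ∈ (⊥ : Subgroup (MulAut P))),
        Subgroup.mem_bot.1 (h ▸ ⟨b * a, rfl⟩ : MulAut.conj (b * a) ∈ (⊥ : Subgroup (MulAut P)))]
    refine (Subgroup.eq_of_le_of_card_ge (conj_range_le hna hn hne) ?_).symm
    rw [Subgroup.card_map_of_injective γ.injective]
  have hex : ∀ x : P, ∃ y : P, MulAut.conj y = γ (MulAut.conj x) := fun x => by
    have : γ (MulAut.conj x) ∈ I := hmap ▸ ⟨MulAut.conj x, ⟨x, rfl⟩, rfl⟩
    exact this
  choose f hf using hex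
  have hinj : Function.Injective f := fun a b e =>
    conj_injective_of_simple hna (γ.injective (by rw [← hf, ← hf, e]))
  let b : P →* P := MonoidHom.mk' f fun x y => conj_injective_of_simple hna (by
    rw [map_mul, hf, hf, hf, map_mul, map_mul])
  let β : MulAut P := MulEquiv.ofBijective b (Finite.injective_iff_bijective.1 hinj)
  have hβ : ∀ x, MulAut.conj (β x) = γ (MulAut.conj x) := hf
  refine ⟨β, MulEquiv.ext fun a => ?_⟩
  have key : ∀ x, γ a * MulAut.conj (β x) * (γ a)⁻¹ = MulAut.conj (β (a x)) := fun x => by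
    rw [hβ, ← map_mul, ← map_inv, ← map_mul, conj_mul_mul, hβ]
  refine MulEquiv.ext fun z => conj_injective_of_simple hna ?_
  obtain ⟨x, rfl⟩ := β.surjective z
  rw [← conj_mul_mul, key, MulAut.conj_apply, MulAut.mul_apply, MulAut.mul_apply, MulAut.inv_apply_self]

/-- `O₂(Aut P) = 1`. -/
theorem pCore_mulAut_eq_bot (hna : ¬ IsMulCommutative P) [Finite P] {p : ℕ} [Fact p.Prime] {N : Subgroup (MulAut P)}
    (hN : N.Normal) (hp : IsPGroup p N) : N = ⊥ := by
  by_contra hne
  have h1 : IsPGroup p (MulAut.conj : P →* MulAut P).range := hp.to_le (conj_range_le hna hN hne)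
  have h2 : IsPGroup p P := h1.of_equiv (MonoidHom.ofInjective (conj_injective_of_simple hna)).symm
  haveI := h2.center_nontrivial
  exact (Subgroup.nontrivial_iff_ne_bot _).1 inferInstance (center_eq_bot hna)

end Cfsg.Agent.Lib.Fischer3T37
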