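import Cfsg.Agent.Lib.Fischer3T37.Kernel
import Cfsg.Agent.Lib.LargeES.Heisenberg
import Cfsg.Agent.Lib.CharP.Fitting
import Cfsg.Prelude.Def_MonsterType

/-!
# The kernel is a large extraspecial subgroup

From the local facts on `E` (collected in `Pair`): the kernel of the action of `C_A(j)` on `C/E` is
`F*(C_A(j))` and is a large extraspecial 2-subgroup of `A = Aut G`.
-/

set_option autoImplicit false

namespace Cfsg.Agent.Lib.Fischer3T37

open Cfsg

universe u v

variable {G : Type u} [Group G] [Finite G] {j0 d1 d2 : G} {E : Subgroup G}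

/-- What is used about `E` inside `C(d₁ d₂)`. -/
structure Pair (j0 d1 d2 : G) (E : Subgroup G) : Prop where
  sq1 : d1 * d1 = 1
  sq2 : d2 * d2 = 1
  comm12 : Commute d1 d2
  ne12 : d1 ≠ d2
  ne1 : d1 ≠ 1
  prod : d1 * d2 = j0
  mem1 : d1 ∈ E
  mem2 : d2 ∈ E
  cen1 : ∀ e ∈ E, Commute e d1
  cen2 : ∀ e ∈ E, Commute e d2
  sq : ∀ x ∈ E, x * x = 1 ∨ x * x = j0
  comm : ∀ x ∈ E, ∀ y ∈ E, x * y * x⁻¹ * y⁻¹ = 1 ∨ x * y * x⁻¹ * y⁻¹ = j0
  center : ∀ z ∈ E, (∀ x ∈ E, Commute z x) → z = 1 ∨ z = d1 ∨ z = d2 ∨ z = j0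
  move : ∀ q ∈ kernelSet j0 E, ∀ x ∈ E, q x = x ∨ q x = x * j0
  outer : ∀ q ∈ kernelSet j0 E, (∀ e ∈ E, q ≠ MulAut.conj e) → q d1 = d2
  faith : ∀ c : G, Commute c j0 →
    (∀ x ∈ E, c * x * c⁻¹ * x⁻¹ = 1 ∨ c * x * c⁻¹ * x⁻¹ = d1 ∨ c * x * c⁻¹ * x⁻¹ = d2 ∨
      c * x * c⁻¹ * x⁻¹ = j0) → c ∈ E
  odd : ∀ K : Subgroup G, Odd (Nat.card K) → (∀ k ∈ K, Commute k d1) → (∀ k ∈ K, j0 * k * j0 = k⁻¹) →
    (∀ e ∈ E, ∀ k ∈ K, e * k * e⁻¹ ∈ K) → K = ⊥

/-- An involution acting without fixed points inverts. -/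
theorem inverts_of_fix_trivial {d : G} (hd : d * d = 1) (K : Subgroup G) (hn : ∀ k ∈ K, d * k * d ∈ K)
    (hf : ∀ k ∈ K, d * k * d = k → k = 1) : ∀ k ∈ K, d * k * d = k⁻¹ := by
  intro k hk
  let φ : ↥K →* ↥K := MonoidHom.mk' (fun x => ⟨d * x * d, hn x x.2⟩) fun x y => Subtype.ext (by
    show d * ((x : G) * y) * d = d * x * d * (d * y * d)
    simp only [mul_assoc, ← mul_assoc d d, hd, one_mul])
  have hφ : MonoidHom.FixedPointFree φ := fun g hg => Subtype.ext (hf g g.2 (congrArg Subtype.val hg))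
  have h2 : Function.Involutive φ := fun x => Subtype.ext (by
    show d * (d * x * d) * d = (x : G)
    simp only [← mul_assoc, hd, one_mul]
    rw [mul_assoc, hd, mul_one])
  exact congrArg Subtype.val (congrFun (hφ.coe_eq_inv_of_involutive h2) ⟨k, hk⟩)

omit [Finite G] in
theorem eq_one_of_sq_odd {K : Subgroup G} (hK : Odd (Nat.card K)) {k : G} (hk : k ∈ K) (h : k * k = 1) :
    k = 1 := by
  have h1 : orderOf k ∣ 2 := orderOf_dvd_of_pow_eq_one (by rw [pow_two, h])
  have h2 : orderOf k ∣ Nat.card K := by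
    rw [← Subgroup.orderOf_mk k hk]; exact orderOf_dvd_natCard _
  have h3 := Nat.dvd_gcd h1 h2
  rw [Nat.coprime_two_left.2 hK] at h3
  exact orderOf_eq_one_iff.1 (Nat.dvd_one.1 h3)

variable {P : Type v} [Group P] (X : Extension j0 E P) (W : Pair j0 d1 d2 E)

namespace Extension

include X

omit [Finite G] in
theorem conj_inj {a b : G} : MulAut.conj a = MulAut.conj b ↔ a = b :=
  (conj_injective_of_center X.center).eq_iff

theorem mem_E_of_apply_eq {α : MulAut G} (hα : α ∈ autCent j0) (hfix : ∀ x ∈ E, α x = x) {c : G}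
    (hc : c ∈ Subgroup.centralizer ({j0} : Set G)) : ∀ x ∈ E, Commute (c⁻¹ * α c) x := by
  intro x hx
  have h := congrArg α (show c * x = (c * x * c⁻¹) * c by group)
  rw [map_mul, map_mul, hfix x hx, hfix _ (X.conj_mem_E hc hx)] at h
  show c⁻¹ * α c * x = x * (c⁻¹ * α c)
  rw [mul_assoc, h]
  group

theorem apply_mem_kernelSet {α q : MulAut G} (hα : α ∈ autCent j0) (hq : q ∈ kernelSet j0 E) :
    α * q * α⁻¹ ∈ kernelSet j0 E := by
  have hαj := X.mem_autCent_iff.1 hα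
  have hαj' := X.mem_autCent_iff.1 ((autCent j0).inv_mem hα)
  refine ⟨?_, fun c hc => ?_⟩
  · rw [MulAut.mul_apply, MulAut.mul_apply, hαj', hq.1, hαj]
  · have hc' := X.apply_mem_C ((autCent j0).inv_mem hα) hc
    have h := X.apply_mem_E hα (hq.2 _ hc')
    rw [map_mul, map_inv, MulAut.apply_inv_self] at h
    simpa [MulAut.mul_apply] using h

include W

omit [Finite G] in
theorem j0_mem : j0 ∈ E := W.prod ▸ E.mul_mem W.mem1 W.mem2

omit [Finite G] in
theorem j0_sq : j0 * j0 = 1 := by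
  rw [← W.prod, mul_assoc, ← mul_assoc d2, ← W.comm12.eq, mul_assoc d1, W.sq2, mul_one, W.sq1]

omit [Finite G] in
theorem commute_j0 {e : G} (he : e ∈ E) : Commute e j0 := W.prod ▸ (W.cen1 e he).mul_right (W.cen2 e he)

omit [Finite G] in
theorem j0_ne_one : j0 ≠ 1 := fun h => W.ne12 (by
  calc d1 = d1 * (d2 * d2) := by rw [W.sq2, mul_one]
    _ = d2 := by rw [← mul_assoc, W.prod, h, one_mul])

theorem conj_mem_kernelSet {e : G} (he : e ∈ E) : MulAut.conj e ∈ kernelSet j0 E := by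
  refine ⟨?_, fun c hc => ?_⟩
  · rw [MulAut.conj_apply, (X.commute_j0 W he).eq, mul_inv_cancel_right]
  · have h := E.mul_mem (X.conj_mem_E (Subgroup.inv_mem _ hc) he) (E.inv_mem he)
    rw [inv_inv] at h
    simpa [MulAut.conj_apply, mul_assoc] using h

variable {Q : Subgroup (MulAut G)} (hQ : (Q : Set (MulAut G)) = kernelSet j0 E)
  (hcard : Nat.card Q = 2 * Nat.card E)
include hQ hcard

theorem mem_Q {q : MulAut G} : q ∈ Q ↔ q ∈ kernelSet j0 E := by rw [← hQ, SetLike.mem_coe]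

theorem conj_mem_Q {e : G} (he : e ∈ E) : MulAut.conj e ∈ Q :=
  (X.mem_Q W hQ hcard).2 (X.conj_mem_kernelSet W he)

theorem exists_outer : ∃ q ∈ Q, q d1 = d2 ∧ q d2 = d1 := by
  classical
  by_contra hno
  have hle : Q ≤ E.map (MulAut.conj : G →* MulAut G) := by
    intro q hq
    by_contra hqm
    have h1 := W.outer q ((X.mem_Q W hQ hcard).1 hq) fun e he h => hqm ⟨e, he, h.symm⟩
    refine hno ⟨q, hq, h1, ?_⟩
    have h2 := ((X.mem_Q W hQ hcard).1 hq).1
    rw [← W.prod, map_mul, h1, W.comm12.eq] at h2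
    exact mul_left_cancel h2
  have h := Subgroup.card_le_of_le hle
  rw [hcard, Subgroup.card_map_of_injective (conj_injective_of_center X.center)] at h
  have : 0 < Nat.card E := Nat.card_pos
  omega

theorem eq_conj_of_fix {q : MulAut G} (hq : q ∈ Q) (h : q d1 = d1) : ∃ e ∈ E, MulAut.conj e = q := by
  by_contra hno
  exact W.ne12 (h ▸ W.outer q ((X.mem_Q W hQ hcard).1 hq) fun e he he' => hno ⟨e, he, he'.symm⟩)

theorem conj_comm {q : MulAut G} (hq : q ∈ Q) {x : G} (hx : x ∈ E) :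
    q * MulAut.conj x * q⁻¹ * (MulAut.conj x)⁻¹ = 1 ∨
      q * MulAut.conj x * q⁻¹ * (MulAut.conj x)⁻¹ = MulAut.conj j0 := by
  rw [conj_mul_mul, ← map_inv, ← map_mul]
  rcases W.move q ((X.mem_Q W hQ hcard).1 hq) x hx with h | h
  · exact Or.inl (by rw [h, mul_inv_cancel, map_one])
  · exact Or.inr (by rw [h, (X.commute_j0 W hx).eq, mul_inv_cancel_right])

theorem fix_J {q : MulAut G} (hq : q ∈ Q) : q * MulAut.conj j0 * q⁻¹ = MulAut.conj j0 := by
  rw [conj_mul_mul, ((X.mem_Q W hQ hcard).1 hq).1]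

/-- The central elements of `Q`. -/
theorem eq_of_central {z : MulAut G} (hz : z ∈ Q) (hc : ∀ q ∈ Q, Commute z q) :
    z = 1 ∨ z = MulAut.conj j0 := by
  have hfix : ∀ x ∈ E, z x = x := fun x hx => by
    have h := hc _ (X.conj_mem_Q W hQ hcard hx)
    have h2 := conj_mul_mul z x
    rw [h.eq, mul_inv_cancel_right, X.conj_inj] at h2
    exact h2.symm
  obtain ⟨e, he, rfl⟩ := X.eq_conj_of_fix W hQ hcard hz (hfix d1 W.mem1)
  have hcen : ∀ x ∈ E, Commute e x := fun x hx => by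
    have h := hfix x hx
    rw [MulAut.conj_apply, mul_inv_eq_iff_eq_mul] at h
    exact h
  obtain ⟨q, hq, hq1, hq2⟩ := X.exists_outer W hQ hcard
  have hqe : q e = e := by
    have h := (hc q hq).symm
    have h2 := conj_mul_mul q e
    rw [h.eq, mul_inv_cancel_right, X.conj_inj] at h2
    exact h2.symm
  rcases W.center e he hcen with rfl | rfl | rfl | rfl
  · exact Or.inl (map_one _)
  · exact absurd (hqe.symm.trans hq1) W.ne12
  · exact absurd (hq2.symm.trans hqe) W.ne12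
  · exact Or.inr rfl

theorem sq_mem {q : MulAut G} (hq : q ∈ Q) : q * q = 1 ∨ q * q = MulAut.conj j0 := by
  by_cases h : ∃ e ∈ E, MulAut.conj e = q
  · obtain ⟨e, he, rfl⟩ := h
    rw [← map_mul]
    rcases W.sq e he with h | h <;> rw [h]
    · exact Or.inl (map_one _)
    · exact Or.inr rfl
  · have hq1 := W.outer q ((X.mem_Q W hQ hcard).1 hq) fun e he he' => h ⟨e, he, he'.symm⟩
    have hq2 : q d2 = d1 := by
      have h2 := ((X.mem_Q W hQ hcard).1 hq).1
      rw [← W.prod, map_mul, hq1, W.comm12.eq] at h2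
      exact mul_left_cancel h2
    have hj := ((X.mem_Q W hQ hcard).1 hq).1
    have hfix : ∀ x ∈ E, (q * q) x = x := fun x hx => by
      rw [MulAut.mul_apply]
      rcases W.move q ((X.mem_Q W hQ hcard).1 hq) x hx with h' | h'
      · rw [h', h']
      · rw [h', map_mul, h', hj, mul_assoc, X.j0_sq W, mul_one]
    obtain ⟨e, he, hee⟩ := X.eq_conj_of_fix W hQ hcard (Q.mul_mem hq hq) (hfix d1 W.mem1)
    have hcen : ∀ x ∈ E, Commute e x := fun x hx => by
      have h' := hfix x hx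
      rw [← hee, MulAut.conj_apply, mul_inv_eq_iff_eq_mul] at h'
      exact h'
    have hqe : q e = e := by
      rw [← X.conj_inj, ← conj_mul_mul, hee]
      group
    rw [← hee]
    rcases W.center e he hcen with rfl | rfl | rfl | rfl
    · exact Or.inl (map_one _)
    · exact absurd (hqe.symm.trans hq1) W.ne12
    · exact absurd (hq2.symm.trans hqe) W.ne12
    · exact Or.inr rfl

theorem comm_mem {q r : MulAut G} (hq : q ∈ Q) (hr : r ∈ Q) :
    q * r * q⁻¹ * r⁻¹ = 1 ∨ q * r * q⁻¹ * r⁻¹ = MulAut.conj j0 := by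
  have hinv : ∀ a b : MulAut G, (a * b * a⁻¹ * b⁻¹ = 1 ∨ a * b * a⁻¹ * b⁻¹ = MulAut.conj j0) →
      b * a * b⁻¹ * a⁻¹ = 1 ∨ b * a * b⁻¹ * a⁻¹ = MulAut.conj j0 := by
    intro a b h
    rw [show b * a * b⁻¹ * a⁻¹ = (a * b * a⁻¹ * b⁻¹)⁻¹ by group]
    rcases h with h | h <;> rw [h]
    · exact Or.inl inv_one
    · refine Or.inr (inv_eq_of_mul_eq_one_right ?_)
      rw [← map_mul, X.j0_sq W, map_one]
  by_cases hcr : ∃ e ∈ E, MulAut.conj e = r
  · obtain ⟨e, he, rfl⟩ := hcr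
    exact X.conj_comm W hQ hcard hq he
  by_cases hcq : ∃ e ∈ E, MulAut.conj e = q
  · obtain ⟨e, he, rfl⟩ := hcq
    exact hinv _ _ (X.conj_comm W hQ hcard hr he)
  have h1 := W.outer q ((X.mem_Q W hQ hcard).1 hq) fun e he he' => hcq ⟨e, he, he'.symm⟩
  have h2 := W.outer r ((X.mem_Q W hQ hcard).1 hr) fun e he he' => hcr ⟨e, he, he'.symm⟩
  obtain ⟨c, hc, hc'⟩ := X.eq_conj_of_fix W hQ hcard (q := q⁻¹ * r) (Q.mul_mem (Q.inv_mem hq) hr) (by
    rw [MulAut.mul_apply, h2, ← h1, MulAut.inv_apply_self])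
  rw [show q * r * q⁻¹ * r⁻¹ = q * (q * (q⁻¹ * r) * q⁻¹ * (q⁻¹ * r)⁻¹) * q⁻¹ by group, ← hc']
  rcases X.conj_comm W hQ hcard hq hc with h | h <;> rw [h]
  · exact Or.inl (by group)
  · exact Or.inr (X.fix_J W hQ hcard hq)

theorem center_map_eq :
    ((Subgroup.center ↥Q).map Q.subtype : Set (MulAut G)) = {1, MulAut.conj j0} := by
  ext z
  rw [SetLike.mem_coe, Set.mem_insert_iff, Set.mem_singleton_iff]
  constructor
  · rintro ⟨y, hy, rfl⟩
    exact X.eq_of_central W hQ hcard y.2 fun q hq =>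
      congrArg Subtype.val (Subgroup.mem_center_iff.1 hy ⟨q, hq⟩).symm
  · rintro (rfl | rfl)
    · exact one_mem _
    · refine ⟨⟨_, X.conj_mem_Q W hQ hcard (X.j0_mem W)⟩, Subgroup.mem_center_iff.2 fun q => Subtype.ext ?_, rfl⟩
      exact mul_inv_eq_iff_eq_mul.1 (X.fix_J W hQ hcard q.2)

theorem isPGroup_Q : IsPGroup 2 Q := by
  haveI : Fact (Nat.Prime 2) := ⟨Nat.prime_two⟩
  obtain ⟨n, hn⟩ := IsPGroup.iff_card.1 X.two
  exact IsPGroup.of_card (n := n + 1) (by rw [hcard, hn]; ring)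

theorem isExtraspecial_Q : IsExtraspecial 2 Q := by
  haveI : Finite Q := inferInstance
  have hJ : MulAut.conj j0 ∈ Q := X.conj_mem_Q W hQ hcard (X.j0_mem W)
  have hcen : ∀ y : Q, (y : MulAut G) = 1 ∨ (y : MulAut G) = MulAut.conj j0 → y ∈ Subgroup.center Q := by
    intro y hy
    have h : (y : MulAut G) ∈ ({1, MulAut.conj j0} : Set (MulAut G)) := by
      simpa [Set.mem_insert_iff] using hy
    rw [← X.center_map_eq W hQ hcard] at h
    obtain ⟨w, hw, hwy⟩ := h
    rwa [Subtype.ext (a1 := w) (a2 := y) hwy] at hw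
  obtain ⟨q, hq, hq1, -⟩ := X.exists_outer W hQ hcard
  refine LargeES.Heisenberg.isExtraspecial_of_props (X.isPGroup_Q W hQ hcard) (z := ⟨_, hJ⟩)
    (fun h => X.j0_ne_one W ((X.conj_inj).1 ((congrArg Subtype.val h).trans (map_one _).symm)))
    (hcen _ (Or.inr rfl)) (fun x hx => ?_) (fun x => hcen _ ?_) (fun x y => hcen _ ?_)
    (x := ⟨q, hq⟩) (y := ⟨MulAut.conj d1, X.conj_mem_Q W hQ hcard W.mem1⟩) fun h => W.ne12 ?_
  · refine (X.eq_of_central W hQ hcard x.2 fun r hr =>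
      congrArg Subtype.val (Subgroup.mem_center_iff.1 hx ⟨r, hr⟩).symm).imp (fun h => Subtype.ext h)
      fun h => Subtype.ext h
  · simpa [pow_two] using X.sq_mem W hQ hcard x.2
  · simpa using X.comm_mem W hQ hcard x.2 y.2
  · have h' : q * MulAut.conj d1 = MulAut.conj d1 * q := congrArg Subtype.val h
    have h2 := conj_mul_mul q d1
    rw [h', mul_inv_cancel_right, X.conj_inj, hq1] at h2
    exact h2

theorem centralizer_Q_le : Subgroup.centralizer (Q : Set (MulAut G)) ≤ (Subgroup.center ↥Q).map Q.subtype := by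
  intro α hα
  rw [Subgroup.mem_centralizer_iff] at hα
  have hαC : α ∈ autCent j0 := Subgroup.mem_centralizer_singleton_iff.2
    (hα _ (X.conj_mem_Q W hQ hcard (X.j0_mem W))).symm
  have hfix : ∀ x ∈ E, α x = x := fun x hx => by
    have h := conj_mul_mul α x
    rw [← hα _ (X.conj_mem_Q W hQ hcard hx), mul_inv_cancel_right, X.conj_inj] at h
    exact h.symm
  have hαQ : α ∈ Q := by
    refine (X.mem_Q W hQ hcard).2 ⟨X.mem_autCent_iff.1 hαC, fun c hc => W.faith _ ?_ fun x hx => Or.inl ?_⟩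
    · exact X.mem_E_of_apply_eq hαC hfix hc j0 (X.j0_mem W)
    · rw [(X.mem_E_of_apply_eq hαC hfix hc x hx).eq, mul_inv_cancel_right, mul_inv_cancel]
  rw [← SetLike.mem_coe, X.center_map_eq W hQ hcard, Set.mem_insert_iff, Set.mem_singleton_iff]
  exact X.eq_of_central W hQ hcard hαQ fun q hq => (hα q hq).symm

theorem centralizer_center_le :
    Subgroup.centralizer (((Subgroup.center ↥Q).map Q.subtype : Subgroup (MulAut G)) : Set (MulAut G)) ≤
      Subgroup.normalizer (Q : Set (MulAut G)) := by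
  intro α hα
  rw [X.center_map_eq W hQ hcard, Subgroup.mem_centralizer_iff] at hα
  have hαC : α ∈ autCent j0 := Subgroup.mem_centralizer_singleton_iff.2 (hα _ (Or.inr rfl)).symm
  rw [Subgroup.mem_normalizer_iff]
  intro q
  refine ⟨fun hq => (X.mem_Q W hQ hcard).2 (X.apply_mem_kernelSet hαC ((X.mem_Q W hQ hcard).1 hq)),
    fun hq => ?_⟩
  have h := X.apply_mem_kernelSet ((autCent j0).inv_mem hαC) ((X.mem_Q W hQ hcard).1 hq)
  rw [inv_inv, show α⁻¹ * (α * q * α⁻¹) * α = q by group] at h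
  exact (X.mem_Q W hQ hcard).2 h

theorem odd_eq_bot (K : Subgroup (MulAut G)) (hK : Odd (Nat.card K))
    (hn : Q ≤ Subgroup.normalizer (K : Set (MulAut G))) : K = ⊥ := by
  classical
  set f : G →* MulAut G := MulAut.conj with hf
  have hinj : Function.Injective f := conj_injective_of_center X.center
  have hidx : f.range.index = 2 := by
    have h := Subgroup.card_mul_index f.range
    rw [← Nat.card_congr (MonoidHom.ofInjective hinj).toEquiv, X.card_aut, Nat.mul_comm 2] at h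
    exact Nat.eq_of_mul_eq_mul_left Nat.card_pos h
  have hle : K ≤ f.range := by
    intro k hk
    obtain ⟨m, hm⟩ := hK
    have h1 : k ^ (2 * m + 1) = 1 := by
      have h2 : (⟨k, hk⟩ : K) ^ Nat.card K = 1 := pow_card_eq_one'
      rw [hm] at h2
      exact congrArg Subtype.val h2
    have h3 : k = ((k * k) ^ m)⁻¹ := by
      rw [eq_inv_iff_mul_eq_one, ← pow_two, ← pow_mul, ← pow_succ']
      exact h1
    rw [h3]
    exact inv_mem (pow_mem (Subgroup.mul_self_mem_of_index_two hidx k) m)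
  set K0 := K.comap f with hK0def
  have hmem : ∀ {k : G}, k ∈ K0 ↔ f k ∈ K := Iff.rfl
  have hK0 : Odd (Nat.card K0) := by
    rwa [← Subgroup.card_map_of_injective hinj, Subgroup.map_comap_eq, inf_eq_right.2 hle]
  have hq : ∀ q ∈ Q, ∀ k ∈ K0, q k ∈ K0 := fun q hq k hk => by
    rw [hmem, hf, ← conj_mul_mul]
    exact (Subgroup.mem_normalizer_iff.1 (hn hq) _).1 hk
  have he : ∀ e ∈ E, ∀ k ∈ K0, e * k * e⁻¹ ∈ K0 := fun e he k hk => by
    simpa using hq _ (X.conj_mem_Q W hQ hcard he) k hk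
  have hdd : ∀ {d : G}, d ∈ E → d * d = 1 → ∀ k ∈ K0, d * k * d ∈ K0 := fun {d} hd h2 k hk => by
    have := he d hd k hk
    rwa [inv_eq_of_mul_eq_one_right h2] at this
  have hcomm : ∀ {d k : G}, d * d = 1 → d * k * d = k → Commute k d := fun {d k} h2 h => by
    show k * d = d * k
    nth_rw 1 [← h]
    rw [mul_assoc, h2, mul_one]
  -- `j0` inverts `K0`
  have hjinv : ∀ k ∈ K0, j0 * k * j0 = k⁻¹ := by
    refine inverts_of_fix_trivial (X.j0_sq W) K0 (hdd (X.j0_mem W) (X.j0_sq W)) fun k hk hkj => ?_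
    have hkc : Commute k j0 := hcomm (X.j0_sq W) hkj
    have hkE : k ∈ E := W.faith k hkc fun x hx => Or.inl ?_
    · have h := X.two
      obtain ⟨n, hn'⟩ := IsPGroup.iff_card.1 h
      have h1 : orderOf k ∣ 2 ^ n := by
        rw [← hn', ← Subgroup.orderOf_mk k hkE]; exact orderOf_dvd_natCard _
      have h2 : orderOf k ∣ Nat.card K0 := by
        rw [← Subgroup.orderOf_mk k hk]; exact orderOf_dvd_natCard _
      have h3 := Nat.dvd_gcd h1 h2
      rw [((Nat.coprime_two_left.2 hK0).pow_left n).gcd_eq_one] at h3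
      exact orderOf_eq_one_iff.1 (Nat.dvd_one.1 h3)
    · have hxE : k * x * k⁻¹ * x⁻¹ ∈ E :=
        E.mul_mem (X.conj_mem_E (Subgroup.mem_centralizer_singleton_iff.2 hkc.eq) hx) (E.inv_mem hx)
      have hxK : k * x * k⁻¹ * x⁻¹ ∈ K0 := by
        rw [show k * x * k⁻¹ * x⁻¹ = k * (x * k⁻¹ * x⁻¹) by group]
        exact K0.mul_mem hk (he x hx _ (K0.inv_mem hk))
      obtain ⟨n, hn'⟩ := IsPGroup.iff_card.1 X.two
      have h1 : orderOf (k * x * k⁻¹ * x⁻¹) ∣ 2 ^ n := by
        rw [← hn', ← Subgroup.orderOf_mk _ hxE]; exact orderOf_dvd_natCard _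
      have h2 : orderOf (k * x * k⁻¹ * x⁻¹) ∣ Nat.card K0 := by
        rw [← Subgroup.orderOf_mk _ hxK]; exact orderOf_dvd_natCard _
      have h3 := Nat.dvd_gcd h1 h2
      rw [((Nat.coprime_two_left.2 hK0).pow_left n).gcd_eq_one] at h3
      exact orderOf_eq_one_iff.1 (Nat.dvd_one.1 h3)
  -- nothing of `K0` commutes with `d1` or `d2`
  set K1 := K0 ⊓ Subgroup.centralizer ({d1} : Set G)
  have hK1 : K1 = ⊥ := by
    refine W.odd K1 (Odd.of_dvd_nat hK0 (Subgroup.card_dvd_of_le inf_le_left))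
      (fun k hk => Subgroup.mem_centralizer_singleton_iff.1 hk.2) (fun k hk => hjinv k hk.1) fun e hee k hk =>
        ⟨he e hee k hk.1, Subgroup.mem_centralizer_singleton_iff.2 ?_⟩
    have h1 : Commute k d1 := Subgroup.mem_centralizer_singleton_iff.1 hk.2
    exact (((W.cen1 e hee).mul_left h1).mul_left (W.cen1 e hee).inv_left).eq
  have hf1 : ∀ k ∈ K0, Commute k d1 → k = 1 := fun k hk hc => by
    have : k ∈ K1 := ⟨hk, Subgroup.mem_centralizer_singleton_iff.2 hc.eq⟩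
    rwa [hK1, Subgroup.mem_bot] at this
  obtain ⟨q, hqQ, -, hq2⟩ := X.exists_outer W hQ hcard
  have hf2 : ∀ k ∈ K0, Commute k d2 → k = 1 := fun k hk hc => by
    have h : Commute (q k) (q d2) := hc.map q.toMonoidHom
    rw [hq2] at h
    exact q.injective ((hf1 _ (hq q hqQ k hk) h).trans (map_one q).symm)
  have h1inv := inverts_of_fix_trivial W.sq1 K0 (hdd W.mem1 W.sq1) fun k hk h => hf1 k hk (hcomm W.sq1 h)
  have h2inv := inverts_of_fix_trivial W.sq2 K0 (hdd W.mem2 W.sq2) fun k hk h => hf2 k hk (hcomm W.sq2 h)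
  have hbot : ∀ k ∈ K0, k = 1 := fun k hk => by
    refine eq_one_of_sq_odd hK0 hk (inv_eq_iff_mul_eq_one.1 ?_)
    calc k⁻¹ = j0 * k * j0 := (hjinv k hk).symm
      _ = d1 * (d2 * k * d2) * d1 := by rw [← W.prod]; nth_rw 2 [W.comm12.eq]; simp only [mul_assoc]
      _ = d1 * k⁻¹ * d1 := by rw [h2inv k hk]
      _ = k := by rw [h1inv _ (K0.inv_mem hk), inv_inv]
  refine eq_bot_iff.2 fun α hα => ?_
  obtain ⟨k, rfl⟩ := hle hα
  rw [hbot k (hmem.2 hα), map_one]
  exact one_mem _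

theorem isLargeExtraspecial_Q : IsLargeExtraspecial Q := by
  refine ⟨X.isExtraspecial_Q W hQ hcard, le_antisymm (X.centralizer_Q_le W hQ hcard) ?_,
    X.centralizer_center_le W hQ hcard, X.odd_eq_bot W hQ hcard⟩
  rintro _ ⟨y, hy, rfl⟩
  rw [Subgroup.mem_centralizer_iff]
  exact fun q hq => congrArg Subtype.val (Subgroup.mem_center_iff.1 hy ⟨q, hq⟩)

end Extension

namespace Extension

include X W

/-- `F*` of the centraliser of `conj j₀` in `Aut G`. -/
theorem main : ∀ Q : Subgroup (MulAut G),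
    Q = (generalizedFittingSubgroup ↥(autCent j0)).map (autCent j0).subtype →
    IsLargeExtraspecial Q ∧ Nat.card Q = 2 * Nat.card E ∧ Q ≤ autCent j0 ∧
    ∃ _ : (Q.subgroupOf (autCent j0)).Normal,
      Nonempty (↥(autCent j0) ⧸ Q.subgroupOf (autCent j0) ≃* MulAut P) := by
  haveI := X.finite
  haveI := X.simple
  haveI : Fact (Nat.Prime 2) := ⟨Nat.prime_two⟩
  obtain ⟨Q0, hQ, hle, hcard, hn, ⟨e⟩⟩ := X.exists_kernel
  have hbig := X.isLargeExtraspecial_Q W hQ hcard
  have hp : IsPGroup 2 (Q0.subgroupOf (autCent j0)) :=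
    (X.isPGroup_Q W hQ hcard).of_equiv (Subgroup.subgroupOfEquivOfLe hle).symm
  have hcore : pCore 2 ↥(autCent j0) = Q0.subgroupOf (autCent j0) := by
    refine le_antisymm (fun x hx => ?_) (PSolvable.le_pCore hp)
    set g := e.toMonoidHom.comp (QuotientGroup.mk' (Q0.subgroupOf (autCent j0)))
    have hs : Function.Surjective g := e.surjective.comp (QuotientGroup.mk'_surjective _)
    have hbot : (pCore 2 ↥(autCent j0)).map g = ⊥ := pCore_mulAut_eq_bot X.nonabelian (p := 2)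
      ((inferInstance : (pCore 2 ↥(autCent j0)).Normal).map g hs) (PSolvable.pCore_isPGroup.map g)
    have h1 : g x = 1 := Subgroup.mem_bot.1 (hbot ▸ Subgroup.mem_map_of_mem g hx)
    have h2 : QuotientGroup.mk' (Q0.subgroupOf (autCent j0)) x = 1 := e.injective (h1.trans (map_one _).symm)
    exact (QuotientGroup.eq_one_iff (N := Q0.subgroupOf _) x).1 h2
  have hF : generalizedFittingSubgroup ↥(autCent j0) = Q0.subgroupOf (autCent j0) := by
    rw [← hcore]
    refine CharP.generalizedFittingSubgroup_eq_pCore ?_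
    rw [hcore]
    intro x hx
    have h : (x : MulAut G) ∈ Subgroup.centralizer (Q0 : Set (MulAut G)) :=
      Subgroup.mem_centralizer_iff.2 fun q hq =>
        congrArg Subtype.val (Subgroup.mem_centralizer_iff.1 hx ⟨q, hle hq⟩ hq)
    rw [hbig.2.1] at h
    exact (Subgroup.map_subtype_le _ h : (x : MulAut G) ∈ Q0)
  intro Q hQdef
  rw [hF, Subgroup.subgroupOf_map_subtype, inf_eq_left.2 hle] at hQdef
  subst hQdef
  exact ⟨hbig, hcard, hle, hn, ⟨e⟩⟩

end Extension

end Cfsg.Agent.Lib.Fischer3T37
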