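import Cfsg.Agent.Lib.Fischer3T37.AutGroup

/-!
# The centraliser of an inner involution in the automorphism group

If `C = C(j₀)` is an extension of a 2-group `E` by `Aut P`, `P` simple, every automorphism of `G` maps `j₀` to a
conjugate and `|Aut G| = 2|G|`, then the centraliser of `conj j₀` in `Aut G` is an extension of a 2-group of
order `2|E|` by `Aut P`.
-/

set_option autoImplicit false

namespace Cfsg.Agent.Lib.Fischer3T37

universe u v

variable {G : Type u} [Group G] [Finite G]

instance finite_mulAut : Finite (MulAut G) :=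
  Finite.of_injective (fun α => (α : G → G)) DFunLike.coe_injective

/-- `C(j₀) = E.(Aut P)`, `|Aut G| = 2|G|`, and `Aut G` preserves the class of `j₀`. -/
structure Extension (j0 : G) (E : Subgroup G) (P : Type v) [Group P] where
  center : Subgroup.center G = ⊥
  le : E ≤ Subgroup.centralizer ({j0} : Set G)
  normal : (E.subgroupOf (Subgroup.centralizer ({j0} : Set G))).Normal
  two : IsPGroup 2 E
  simple : IsSimpleGroup P
  nonabelian : ¬ IsMulCommutative P
  finite : Finite P
  iso : ↥(Subgroup.centralizer ({j0} : Set G)) ⧸ E.subgroupOf (Subgroup.centralizer ({j0} : Set G)) ≃* MulAut P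
  card_aut : Nat.card (MulAut G) = 2 * Nat.card G
  orbit : ∀ α : MulAut G, ∃ g : G, g * j0 * g⁻¹ = α j0

/-- The centraliser in `Aut G` of the inner automorphism of `j`. -/
abbrev autCent (j : G) : Subgroup (MulAut G) := Subgroup.centralizer ({MulAut.conj j} : Set (MulAut G))

omit [Finite G] in
theorem conj_injective_of_center (hZ : Subgroup.center G = ⊥) :
    Function.Injective (MulAut.conj : G →* MulAut G) := by
  rw [injective_iff_map_eq_one]
  intro x hx
  have hc : x ∈ Subgroup.center G := Subgroup.mem_center_iff.2 fun y => by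
    have h := DFunLike.congr_fun hx y
    rw [MulAut.conj_apply, MulAut.one_apply, mul_inv_eq_iff_eq_mul] at h
    exact h.symm
  rwa [hZ, Subgroup.mem_bot] at hc

variable {j0 : G} {E : Subgroup G} {P : Type v} [Group P] (X : Extension j0 E P)


namespace Extension

include X

theorem mem_autCent_iff {α : MulAut G} : α ∈ autCent j0 ↔ α j0 = j0 := by
  rw [Subgroup.mem_centralizer_singleton_iff, ← conj_injective_of_center X.center |>.eq_iff, ← conj_mul_mul,
    mul_inv_eq_iff_eq_mul]

theorem conj_mem_autCent {c : G} (hc : c ∈ (Subgroup.centralizer ({j0} : Set G))) : MulAut.conj c ∈ autCent j0 := by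
  rw [X.mem_autCent_iff, MulAut.conj_apply, (Subgroup.mem_centralizer_singleton_iff.1 hc), mul_inv_cancel_right]

theorem apply_mem_C {α : MulAut G} (hα : α ∈ autCent j0) {c : G} (hc : c ∈ (Subgroup.centralizer ({j0} : Set G))) : α c ∈ (Subgroup.centralizer ({j0} : Set G)) := by
  rw [Subgroup.mem_centralizer_singleton_iff] at hc ⊢
  conv_lhs => rw [← (X.mem_autCent_iff.1 hα), ← map_mul, hc, map_mul, X.mem_autCent_iff.1 hα]

/-- A normal 2-subgroup of `C` lies in `E`. -/
theorem le_E {N : Subgroup G} (hNC : N ≤ (Subgroup.centralizer ({j0} : Set G))) (hn : ∀ c ∈ (Subgroup.centralizer ({j0} : Set G)), ∀ x ∈ N, c * x * c⁻¹ ∈ N)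
    (hp : IsPGroup 2 N) : N ≤ E := by
  haveI := X.simple
  haveI := X.finite
  haveI := X.normal
  haveI : Fact (Nat.Prime 2) := ⟨Nat.prime_two⟩
  set f : ↥(Subgroup.centralizer ({j0} : Set G)) →* MulAut P := X.iso.toMonoidHom.comp (QuotientGroup.mk' (E.subgroupOf (Subgroup.centralizer ({j0} : Set G)))) with hf
  have hsurj : Function.Surjective f := X.iso.surjective.comp (QuotientGroup.mk'_surjective _)
  haveI hnN : (N.subgroupOf (Subgroup.centralizer ({j0} : Set G))).Normal := ⟨fun x hx c => hn c c.2 _ hx⟩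
  have hbot : (N.subgroupOf (Subgroup.centralizer ({j0} : Set G))).map f = ⊥ := pCore_mulAut_eq_bot X.nonabelian (p := 2)
    (hnN.map f hsurj) ((hp.of_equiv (Subgroup.subgroupOfEquivOfLe hNC).symm).map f)
  intro x hx
  have h1 : f ⟨x, hNC hx⟩ = 1 := Subgroup.mem_bot.1 (hbot ▸ Subgroup.mem_map_of_mem f hx)
  have h2 : QuotientGroup.mk' (E.subgroupOf (Subgroup.centralizer ({j0} : Set G))) ⟨x, hNC hx⟩ = 1 := X.iso.injective (h1.trans (map_one _).symm)
  exact (QuotientGroup.eq_one_iff (N := E.subgroupOf _) _).1 h2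

theorem conj_mem_E {c x : G} (hc : c ∈ (Subgroup.centralizer ({j0} : Set G))) (hx : x ∈ E) : c * x * c⁻¹ ∈ E :=
  X.normal.conj_mem ⟨x, X.le hx⟩ hx ⟨c, hc⟩

theorem apply_mem_E {α : MulAut G} (hα : α ∈ autCent j0) {x : G} (hx : x ∈ E) : α x ∈ E := by
  refine X.le_E (N := E.map α.toMonoidHom) ?_ ?_ (X.two.map _) ⟨x, hx, rfl⟩
  · rintro _ ⟨y, hy, rfl⟩
    exact X.apply_mem_C hα (X.le hy)
  · rintro c hc _ ⟨y, hy, rfl⟩
    refine ⟨α.symm c * y * (α.symm c)⁻¹, X.conj_mem_E (X.apply_mem_C ((autCent j0).inv_mem hα) hc) hy, ?_⟩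
    simp

theorem apply_mem_E_iff {α : MulAut G} (hα : α ∈ autCent j0) {x : G} : α x ∈ E ↔ x ∈ E :=
  ⟨fun h => by simpa using X.apply_mem_E ((autCent j0).inv_mem hα) h, X.apply_mem_E hα⟩

/-- An automorphism fixing `j₀`, on `C`. -/
def restr (α : autCent j0) : MulAut ↥(Subgroup.centralizer ({j0} : Set G)) where
  toFun c := ⟨(α : MulAut G) c, X.apply_mem_C α.2 c.2⟩
  invFun c := ⟨((α⁻¹ : autCent j0) : MulAut G) c, X.apply_mem_C (α⁻¹).2 c.2⟩
  left_inv c := Subtype.ext (by simp)
  right_inv c := Subtype.ext (by simp)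
  map_mul' a b := Subtype.ext (by simp)

/-- The action on `C/E`. -/
def quotAct [(E.subgroupOf (Subgroup.centralizer ({j0} : Set G))).Normal] : autCent j0 →* MulAut (↥(Subgroup.centralizer ({j0} : Set G)) ⧸ E.subgroupOf (Subgroup.centralizer ({j0} : Set G))) where
  toFun α := QuotientGroup.congr _ _ (X.restr α) (by
    ext c
    constructor
    · rintro ⟨y, hy, rfl⟩
      exact X.apply_mem_E α.2 hy
    · intro hc
      refine ⟨(X.restr α).symm c, ?_, (X.restr α).apply_symm_apply c⟩
      exact X.apply_mem_E (α⁻¹).2 hc)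
  map_one' := MulEquiv.ext fun q => by
    induction q using QuotientGroup.induction_on with | H c => rfl
  map_mul' a b := MulEquiv.ext fun q => by
    induction q using QuotientGroup.induction_on with | H c => rfl

theorem exists_hom : ∃ f : autCent j0 →* MulAut P, Function.Surjective f ∧
    (∀ α : autCent j0, f α = 1 ↔ ∀ c ∈ (Subgroup.centralizer ({j0} : Set G)), c⁻¹ * (α : MulAut G) c ∈ E) ∧
    (∀ (c : G) (hc : c ∈ (Subgroup.centralizer ({j0} : Set G))), f ⟨MulAut.conj c, X.conj_mem_autCent hc⟩ =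
      X.iso (QuotientGroup.mk ⟨c, hc⟩)) := by
  classical
  haveI := X.simple
  haveI := X.finite
  haveI := X.normal
  set K := ↥(Subgroup.centralizer ({j0} : Set G)) ⧸ E.subgroupOf (Subgroup.centralizer ({j0} : Set G))
  have hinj : Function.Injective (MulAut.conj : K →* MulAut K) := by
    refine conj_injective_of_center ?_
    refine eq_bot_iff.2 fun z hz => ?_
    have h := center_mulAut_eq_bot (P := P) X.nonabelian
    have hz' : X.iso z ∈ Subgroup.center (MulAut P) := Subgroup.mem_center_iff.2 fun g => by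
      obtain ⟨y, rfl⟩ := X.iso.surjective g
      rw [← map_mul, ← map_mul, Subgroup.mem_center_iff.1 hz y]
    rw [h, Subgroup.mem_bot] at hz'
    exact Subgroup.mem_bot.2 (X.iso.injective (hz'.trans (map_one _).symm))
  have hsurj : Function.Surjective (MulAut.conj : K →* MulAut K) := by
    intro γ
    obtain ⟨β, hβ⟩ := exists_eq_conj (P := P) X.nonabelian ((X.iso.symm.trans γ).trans X.iso)
    refine ⟨X.iso.symm β, MulEquiv.ext fun q => X.iso.injective ?_⟩
    have h := DFunLike.congr_fun hβ (X.iso q)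
    simp only [MulEquiv.trans_apply, MulEquiv.symm_apply_apply] at h
    rw [h]
    simp
  let e2 : K ≃* MulAut K := MulEquiv.ofBijective _ ⟨hinj, hsurj⟩
  have key : ∀ c : ↥(Subgroup.centralizer ({j0} : Set G)), e2.symm (X.quotAct ⟨MulAut.conj (c : G), X.conj_mem_autCent c.2⟩) = (c : K) := fun c => by
    rw [MulEquiv.symm_apply_eq]
    refine MulEquiv.ext fun q => ?_
    induction q using QuotientGroup.induction_on with | H z => rfl
  refine ⟨(X.iso.toMonoidHom.comp e2.symm.toMonoidHom).comp X.quotAct, fun a => ?_, fun α => ?_,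
    fun c hc => congrArg X.iso (key ⟨c, hc⟩)⟩
  · obtain ⟨c, hc⟩ := QuotientGroup.mk_surjective (X.iso.symm a)
    refine ⟨⟨MulAut.conj (c : G), X.conj_mem_autCent c.2⟩, ?_⟩
    show X.iso (e2.symm (X.quotAct _)) = a
    rw [key, hc, MulEquiv.apply_symm_apply]
  · show X.iso (e2.symm (X.quotAct α)) = 1 ↔ _
    rw [MulEquiv.map_eq_one_iff, MulEquiv.map_eq_one_iff]
    constructor
    · intro h c hc
      have h1 : ((X.restr α ⟨c, hc⟩ : ↥(Subgroup.centralizer ({j0} : Set G))) : K) =
          ((⟨c, hc⟩ : ↥(Subgroup.centralizer ({j0} : Set G))) : K) := by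
        have h2 := DFunLike.congr_fun h ((⟨c, hc⟩ : ↥(Subgroup.centralizer ({j0} : Set G))) : K)
        exact h2
      have h3 := QuotientGroup.eq.1 h1.symm
      exact h3
    · intro h
      refine MulEquiv.ext fun q => ?_
      induction q using QuotientGroup.induction_on with
      | H c =>
        show ((X.restr α c : ↥(Subgroup.centralizer ({j0} : Set G))) : K) = (c : K)
        exact ((QuotientGroup.eq (s := E.subgroupOf _)).2 (h (c : G) c.2)).symm

omit X in
theorem card_orbit (g : G) :
    Nat.card (conjugatesOf g) * Nat.card (Subgroup.centralizer ({g} : Set G)) = Nat.card G := by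
  classical
  haveI := Fintype.ofFinite G
  have h := Nat.card_congr (MulAction.orbitProdStabilizerEquivGroup (ConjAct G) g)
  have h1 : MulAction.orbit (ConjAct G) g = conjugatesOf g := by
    ext x
    constructor
    · rintro ⟨c, rfl⟩
      exact isConj_iff.2 ⟨ConjAct.ofConjAct c, rfl⟩
    · intro hx
      obtain ⟨c, rfl⟩ := isConj_iff.1 (hx : IsConj g x)
      exact ⟨ConjAct.toConjAct c, rfl⟩
  have h2 : Nat.card (MulAction.stabilizer (ConjAct G) g) = Nat.card (Subgroup.centralizer ({g} : Set G)) := by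
    refine Nat.card_congr (ConjAct.ofConjAct.toEquiv.subtypeEquiv fun c => ?_)
    show c • g = g ↔ ConjAct.ofConjAct c ∈ Subgroup.centralizer ({g} : Set G)
    rw [Subgroup.mem_centralizer_singleton_iff, ConjAct.smul_def, mul_inv_eq_iff_eq_mul]
  rw [Nat.card_prod, Nat.card_congr ConjAct.ofConjAct.toEquiv, h1, h2] at h
  exact h

theorem card_autCent : Nat.card (autCent j0) = 2 * Nat.card ↥(Subgroup.centralizer ({j0} : Set G)) := by
  classical
  haveI := Fintype.ofFinite (MulAut G)
  have h := Nat.card_congr (MulAction.orbitProdStabilizerEquivGroup (MulAut G) j0)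
  rw [Nat.card_prod, X.card_aut, ← card_orbit j0] at h
  have ho : MulAction.orbit (MulAut G) j0 = conjugatesOf j0 := by
    ext x
    constructor
    · rintro ⟨α, rfl⟩
      obtain ⟨g, hg⟩ := X.orbit α
      exact (isConj_iff.2 ⟨g, hg⟩ : IsConj j0 _)
    · intro hx
      obtain ⟨g, hg⟩ := isConj_iff.1 (hx : IsConj j0 x)
      exact ⟨MulAut.conj g, hg⟩
  have hs : MulAction.stabilizer (MulAut G) j0 = autCent j0 := by
    ext α
    rw [MulAction.mem_stabilizer_iff, X.mem_autCent_iff]
    rfl
  rw [ho, hs] at h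
  haveI : Nonempty (conjugatesOf j0) := ⟨⟨j0, mem_conjugatesOf_self⟩⟩
  have hpos : 0 < Nat.card (conjugatesOf j0) := Nat.card_pos
  nlinarith [h]

end Extension

/-- The kernel of the action on `C/E`, as a set of automorphisms. -/
def kernelSet (j0 : G) (E : Subgroup G) : Set (MulAut G) :=
  {α | α j0 = j0 ∧ ∀ c ∈ Subgroup.centralizer ({j0} : Set G), c⁻¹ * α c ∈ E}

namespace Extension

include X

/-- The kernel is a normal subgroup of order `2|E|` with quotient `Aut P`. -/
theorem exists_kernel : ∃ (Q : Subgroup (MulAut G)), (Q : Set (MulAut G)) = kernelSet j0 E ∧ Q ≤ autCent j0 ∧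
    Nat.card Q = 2 * Nat.card E ∧
    ∃ _ : (Q.subgroupOf (autCent j0)).Normal, Nonempty (↥(autCent j0) ⧸ Q.subgroupOf (autCent j0) ≃* MulAut P) := by
  obtain ⟨f, hf, hker, -⟩ := X.exists_hom
  refine ⟨f.ker.map (autCent j0).subtype, ?_, Subgroup.map_subtype_le _, ?_, ?_⟩
  · ext α
    constructor
    · rintro ⟨a, ha, rfl⟩
      exact ⟨X.mem_autCent_iff.1 a.2, (hker a).1 ha⟩
    · rintro ⟨h1, h2⟩
      exact ⟨⟨α, X.mem_autCent_iff.2 h1⟩, (hker ⟨α, _⟩).2 h2, rfl⟩
  · haveI := X.normal
    rw [Subgroup.card_map_of_injective (Subgroup.subtype_injective _)]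
    have h1 := f.ker.card_eq_card_quotient_mul_card_subgroup
    have h2 := (E.subgroupOf (Subgroup.centralizer ({j0} : Set G))).card_eq_card_quotient_mul_card_subgroup
    rw [Nat.card_congr (QuotientGroup.quotientKerEquivOfSurjective f hf).toEquiv, X.card_autCent, h2,
      Nat.card_congr X.iso.toEquiv, Nat.card_congr (Subgroup.subgroupOfEquivOfLe X.le).toEquiv] at h1
    haveI := X.finite
    haveI : Finite (MulAut P) := Finite.of_injective (fun α => (α : P → P)) DFunLike.coe_injective
    have hpos : 0 < Nat.card (MulAut P) := Nat.card_pos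
    nlinarith [h1]
  · have he : (f.ker.map (autCent j0).subtype).subgroupOf (autCent j0) = f.ker :=
      Subgroup.comap_map_eq_self_of_injective (Subgroup.subtype_injective _) _
    have hn : ((f.ker.map (autCent j0).subtype).subgroupOf (autCent j0)).Normal :=
      he.symm ▸ (inferInstance : f.ker.Normal)
    exact ⟨hn, ⟨(QuotientGroup.quotientMulEquivOfEq he).trans (QuotientGroup.quotientKerEquivOfSurjective f hf)⟩⟩

end Extension

end Cfsg.Agent.Lib.Fischer3T37
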