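import Cfsg.Agent.Lib.Fi22Unique49.Main
import Cfsg.Agent.Lib.Fi22Unique49.Config
import Cfsg.Agent.Lib.Fischer3T.AutBound
import Cfsg.Agent.Lib.M22Struct66.Main
import Cfsg.Agent.Lib.FischerPair.Pair
import Cfsg.Agent.Lib.Fischer3T37.AutCard

/-!
# Type M(22): an outer automorphism, and `|Aut G| = 2 |G|`

In a configuration `a … i` of the diagram `Y₃₃₂` let `R` be the member on the point `a + c` in the chart
at `i`.  Replacing `d` by `R d R` gives a second configuration, so an automorphism fixing the other eight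
nodes and moving `d`; it is not inner, because `R` does not commute with `h`.
-/

set_option autoImplicit false
set_option linter.style.haveILetI false

namespace Cfsg.Agent.Lib.Fischer3T37

open Cfsg Cfsg.Spor Cfsg.Agent.Lib.PSUAut Cfsg.Agent.Lib.ThreeTransp Cfsg.Agent.Lib.ThreeTransp.PSUSix
  Cfsg.Agent.Lib.M22Struct66 Cfsg.Agent.Lib.Fi22Unique49

variable {G : Type*} [Group G] [Finite G] {D : Set G} {F : Type} [Field F] [Fintype F]

local notation "V" => (Fin 6 → F)
local notation "B" => Cfsg.hermForm 6 F 2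

/-- A configuration gives an isomorphism with the presented group. -/
theorem iso_of_conf (hC : Counted D F) {p : ℕ → G} (hp : Conf D p) :
    ∃ e : Spor.Fi22 ≃* G, ∀ x, e (PresentedGroup.of x) = p (genNo x) := by
  obtain ⟨φ, hφ⟩ := Fi22Unique49.exists_hom (hp.rel hC) (hp.nineA_eq_one hC) (hp.nineB_eq_one hC) (hp.ten_eq_one hC)
  obtain ⟨hsimple, hcard⟩ := S1696.result
  have hfin : Finite Spor.Fi22 := S1696.order_le.1
  have hinj : Function.Injective φ := by
    rcases φ.normal_ker.eq_bot_or_eq_top with h | h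
    · exact (MonoidHom.ker_eq_bot_iff φ).mp h
    · exfalso
      have ha : φ (PresentedGroup.of Fi22.Gen.a) = 1 := MonoidHom.mem_ker.mp (by rw [h]; trivial)
      rw [hφ] at ha
      exact ThreeTransp.ne_one hC.set (hp.mem 0 (by norm_num)) ha
  have hG : Nat.card G = 64561751654400 := by rw [hC.card_G]; norm_num
  exact ⟨MulEquiv.ofBijective φ ((Nat.bijective_iff_injective_and_card φ).2 ⟨hinj, hcard.trans hG.symm⟩), hφ⟩

variable (hC : Counted D F)
include hC

/-- No member commutes with two chains `a – b – c`, `e – f` and a third edge, all mutually commuting. -/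
theorem no_seven {R a b c e f i h : G} (hR : R ∈ D) (na : a ∈ nb D R) (nb' : b ∈ nb D R) (nc : c ∈ nb D R)
    (ne : e ∈ nb D R) (nf : f ∈ nb D R) (ni : i ∈ nb D R) (nh : h ∈ nb D R)
    (eab : ¬ Commute a b) (ebc : ¬ Commute b c) (eef : ¬ Commute e f) (eih : ¬ Commute i h)
    (hac : a ≠ c) (cac : Commute a c) (cae : Commute a e) (caf : Commute a f) (cai : Commute a i)
    (cah : Commute a h) (cbe : Commute b e) (cbf : Commute b f) (cbi : Commute b i) (cbh : Commute b h)
    (cce : Commute c e) (ccf : Commute c f) (cci : Commute c i) (cch : Commute c h)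
    (cei : Commute e i) (ceh : Commute e h) (cfi : Commute f i) (cfh : Commute f h) : False := by
  obtain ⟨C⟩ := hC.chart R hR
  have hh := herm (n := 6) (card' hC.card)
  have o : ∀ {x y : V}, B x y = 0 → B y x = 0 := fun k => orth_symm hh k
  have u : ∀ {x y : V}, B x y = 1 → B y x = 1 := fun {x y} k => by rw [← symm' hC.card x y, k, one_pow]
  have Aa := at_pt hC (C := C) na
  set va := C.pt na
  obtain ⟨vb, Ab, kab⟩ := exists_child hC hR Aa nb' eab
  obtain ⟨vc, Ac, kbc⟩ := exists_child hC hR Ab nc ebc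
  have Ae := at_pt hC (C := C) ne
  set ve := C.pt ne
  obtain ⟨vf, Af, kef⟩ := exists_child hC hR Ae nf eef
  have Ai := at_pt hC (C := C) ni
  set vi := C.pt ni
  obtain ⟨vh, Ah, kih⟩ := exists_child hC hR Ai nh eih
  have aa := Aa.iso
  have bb := Ab.iso
  have cc := Ac.iso
  have ee := Ae.iso
  have ff := Af.iso
  have ii := Ai.iso
  have hhh := Ah.iso
  have kac := Aa.ortho hC hR Ac cac
  have kae := Aa.ortho hC hR Ae cae
  have kaf := Aa.ortho hC hR Af caf
  have kai := Aa.ortho hC hR Ai cai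
  have kah := Aa.ortho hC hR Ah cah
  have kbe := Ab.ortho hC hR Ae cbe
  have kbf := Ab.ortho hC hR Af cbf
  have kbi := Ab.ortho hC hR Ai cbi
  have kbh := Ab.ortho hC hR Ah cbh
  have kce := Ac.ortho hC hR Ae cce
  have kcf := Ac.ortho hC hR Af ccf
  have kci := Ac.ortho hC hR Ai cci
  have kch := Ac.ortho hC hR Ah cch
  have kei := Ae.ortho hC hR Ai cei
  have keh := Ae.ortho hC hR Ah ceh
  have kfi := Af.ortho hC hR Ai cfi
  have kfh := Af.ortho hC hR Ah cfh
  have hr : va + vc = 0 := by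
    refine eq_zero_of_perp hC ![va, vb, ve, vf, vi, vh] (fun k hk => ?_) fun j => ?_
    · have e := pair_sum hC _ hk
      have e0 := e 0; have e1 := e 1; have e2 := e 2; have e3 := e 3; have e4 := e 4; have e5 := e 5
      simp [aa, bb, ee, ff, ii, hhh, kab, kef, kih, u kab, u kef, u kih, kae, kaf, kai, kah, kbe, kbf, kbi,
        kbh, kei, keh, kfi, kfh, o kae, o kaf, o kai, o kah, o kbe, o kbf, o kbi, o kbh, o kei, o keh, o kfi,
        o kfh] at e0 e1 e2 e3 e4 e5
      funext i
      fin_cases i <;> assumption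
    · fin_cases j <;>
        simp [hh.add_left, aa, kab, u kbc, kac, o kac, kae, kaf, kai, kah, kce, kcf, kci, kch,
          two_zero hC]
  have hvac : va = vc := by
    have := congrArg (fun x => x + vc) hr
    simpa [add_assoc, vec_add_self hC.card] using this
  exact hac (Aa.inj hC hR (hvac ▸ Ac))

/-- The second configuration and its witness. -/
theorem exists_twist {p : ℕ → G} (hp : Conf D p) :
    ∃ R ∈ D, R ≠ p 8 ∧ Commute R (p 8) ∧ ¬ Commute R (p 7) ∧ (∀ x < 7, x ≠ 3 → Commute R (p x)) ∧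
      ¬ Commute R (p 3) ∧ Conf D (fun n => if n = 3 then R * p 3 * R else p n) := by
  have hS := hC.set
  have hh := herm (n := 6) (card' hC.card)
  have h8 := hp.mem 8 (by norm_num)
  have h7 := hp.mem 7 (by norm_num)
  have hr' := hp.rel hC
  have hn : ∀ j, j < 7 → p j ∈ nb D (p 8) := fun j hj => by
    refine hp.nbr 8 j (by norm_num) (by omega) (by omega) ?_
    interval_cases j <;> rfl
  have h78 : ¬ Commute (p 8) (p 7) := hp.out 8 7 rfl
  obtain ⟨C⟩ := hC.chart (p 8) h8
  have o : ∀ {x y : V}, B x y = 0 → B y x = 0 := fun k => orth_symm hh k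
  have u : ∀ {x y : V}, B x y = 1 → B y x = 1 := fun {x y} k => by rw [← symm' hC.card x y, k, one_pow]
  have Aa := at_pt hC (C := C) (hn 0 (by norm_num))
  set va := C.pt (hn 0 (by norm_num))
  obtain ⟨vb, Ab, kab⟩ := exists_child hC h8 Aa (hn 1 (by norm_num)) (hp.out 0 1 rfl)
  obtain ⟨vc, Ac, kbc⟩ := exists_child hC h8 Ab (hn 2 (by norm_num)) (hp.out 1 2 rfl)
  obtain ⟨vd, Ad, kcd⟩ := exists_child hC h8 Ac (hn 3 (by norm_num)) (hp.out 2 3 rfl)
  have Ae := at_pt hC (C := C) (hn 4 (by norm_num))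
  have Af := at_pt hC (C := C) (hn 5 (by norm_num))
  have Ag := at_pt hC (C := C) (hn 6 (by norm_num))
  have kac := Aa.ortho hC h8 Ac (hr'.comm 0 2 rfl)
  have kad := Aa.ortho hC h8 Ad (hr'.comm 0 3 rfl)
  have hr0 : va + vc ≠ 0 := fun k => by
    have hvac : va = vc := by
      have := congrArg (fun x => x + vc) k
      simpa [add_assoc, vec_add_self hC.card] using this
    exact (hp.nbr 0 2 (by norm_num) (by norm_num) (by norm_num) rfl).2.1 (Aa.inj hC h8 (hvac ▸ Ac)).symm
  have hrr : B (va + vc) (va + vc) = 0 := by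
    simp [hh.add_left, hh.add_right, Aa.iso, Ac.iso, kac, o kac]
  obtain ⟨R, AR⟩ := exists_at hC (C := C) (v := va + vc) ⟨hr0, hrr⟩
  have cR : ∀ x < 7, x ≠ 3 → Commute R (p x) := by
    intro x hx hx3
    interval_cases x
    · exact (AR.commute_iff hC h8 Aa).2 (by simp [hh.add_left, Aa.iso, o kac])
    · exact (AR.commute_iff hC h8 Ab).2 (by simp [hh.add_left, kab, u kbc, two_zero hC])
    · exact (AR.commute_iff hC h8 Ac).2 (by simp [hh.add_left, Ac.iso, kac])
    · exact absurd rfl hx3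
    · exact (AR.commute_iff hC h8 Ae).2 (by
        simp [hh.add_left, Aa.ortho hC h8 Ae (hr'.comm 0 4 rfl), Ac.ortho hC h8 Ae (hr'.comm 2 4 rfl)])
    · exact (AR.commute_iff hC h8 Af).2 (by
        simp [hh.add_left, Aa.ortho hC h8 Af (hr'.comm 0 5 rfl), Ac.ortho hC h8 Af (hr'.comm 2 5 rfl)])
    · exact (AR.commute_iff hC h8 Ag).2 (by
        simp [hh.add_left, Aa.ortho hC h8 Ag (hr'.comm 0 6 rfl), Ac.ortho hC h8 Ag (hr'.comm 2 6 rfl)])
  have nRd : ¬ Commute R (p 3) := fun k => one_ne_zero (α := F) (by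
    have := AR.ortho hC h8 Ad k
    simpa [hh.add_left, kad, kcd] using this)
  have hRn := AR.mem
  have hRD : R ∈ D := hRn.1
  have ne0 : ∀ {x y}, (Commute R (p y)) → ¬ Commute (p x) (p y) → R ≠ p x := fun k h e => h (e ▸ k)
  have nR7 : ¬ Commute R (p 7) := by
    intro k
    have mem : ∀ {x y}, x < 9 → Commute R (p x) → Commute R (p y) → ¬ Commute (p x) (p y) → p x ∈ nb D R :=
      fun hx k1 k2 h => ⟨hp.mem _ hx, (ne0 k2 h).symm, k1⟩
    have c8 : Commute R (p 8) := hRn.2.2.symm
    refine no_seven hC hRD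
      (mem (y := 1) (by norm_num) (cR 0 (by norm_num) (by norm_num)) (cR 1 (by norm_num) (by norm_num)) (hp.out 0 1 rfl))
      (mem (y := 2) (by norm_num) (cR 1 (by norm_num) (by norm_num)) (cR 2 (by norm_num) (by norm_num)) (hp.out 1 2 rfl))
      (mem (y := 1) (by norm_num) (cR 2 (by norm_num) (by norm_num)) (cR 1 (by norm_num) (by norm_num)) (hp.out 2 1 rfl))
      (mem (y := 5) (by norm_num) (cR 4 (by norm_num) (by norm_num)) (cR 5 (by norm_num) (by norm_num)) (hp.out 4 5 rfl))
      (mem (y := 4) (by norm_num) (cR 5 (by norm_num) (by norm_num)) (cR 4 (by norm_num) (by norm_num)) (hp.out 5 4 rfl))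
      (mem (y := 7) (by norm_num) c8 k (hp.out 8 7 rfl))
      (mem (y := 8) (by norm_num) k c8 (hp.out 7 8 rfl))
      (hp.out 0 1 rfl) (hp.out 1 2 rfl) (hp.out 4 5 rfl) (hp.out 8 7 rfl)
      (hp.nbr 0 2 (by norm_num) (by norm_num) (by norm_num) rfl).2.1.symm
      (hr'.comm 0 2 rfl) (hr'.comm 0 4 rfl) (hr'.comm 0 5 rfl) (hr'.comm 0 8 rfl) (hr'.comm 0 7 rfl)
      (hr'.comm 1 4 rfl) (hr'.comm 1 5 rfl) (hr'.comm 1 8 rfl) (hr'.comm 1 7 rfl) (hr'.comm 2 4 rfl)
      (hr'.comm 2 5 rfl) (hr'.comm 2 8 rfl) (hr'.comm 2 7 rfl) (hr'.comm 4 8 rfl) (hr'.comm 4 7 rfl)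
      (hr'.comm 5 8 rfl) (hr'.comm 5 7 rfl)
  refine ⟨R, hRD, hRn.2.1, hRn.2.2.symm, nR7, cR, nRd, ?_⟩
  have hRR := mul_self hS hRD
  have hinv : R⁻¹ = R := inv_eq hS hRD
  -- away from `h` the new configuration is a conjugate of the old one
  have hconj : ∀ x, x < 9 → x ≠ 7 → (if x = 3 then R * p 3 * R else p x) = R * p x * R⁻¹ := by
    intro x hx hx7
    by_cases h3 : x = 3
    · rw [if_pos h3, h3, hinv]
    · rw [if_neg h3]
      have hc : Commute R (p x) := by
        rcases (show x < 7 ∨ x = 8 by omega) with h | h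
        · exact cR x h h3
        · rw [h]; exact hRn.2.2.symm
      rw [hc.eq, mul_inv_cancel_right]
  have hd'D : R * p 3 * R ∈ D := by
    have := hC.conj R _ (hp.mem 3 (by norm_num))
    rwa [hinv] at this
  have hout37 : ¬ Commute (R * p 3 * R) (p 7) := by
    intro k
    have hd'8 : R * p 3 * R ∈ nb D (p 8) := by
      have := conj_mem_nb hC.conj R (hn 3 (by norm_num))
      rwa [(show Commute R (p 8) from hRn.2.2.symm).eq, mul_inv_cancel_right, hinv] at this
    refine no_chain hC h8 h7 h78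
      (fun j : Fin 7 => if j.val = 3 then R * p 3 * R else p j.val) (fun j => ?_) (fun j l => ?_)
    · by_cases h3 : j.val = 3
      · simp only [if_pos h3]
        exact ⟨hd'8, hd'D, fun e => h78 (e ▸ hd'8.2.2), k.symm⟩
      · simp only [if_neg h3]
        refine ⟨hn _ j.2, hp.nbr 7 j.val (by norm_num) (by omega) (by omega) ?_⟩
        fin_cases j <;> first | rfl | exact absurd rfl h3
    · rw [show (if (j : ℕ) = 3 then R * p 3 * R else p j) = R * p j * R⁻¹ from hconj j (by omega) (by omega),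
        show (if (l : ℕ) = 3 then R * p 3 * R else p l) = R * p l * R⁻¹ from hconj l (by omega) (by omega),
        commute_conj_iff]
      have hjl : joined j.val l.val = adjPath j l := by revert j l; decide
      rcases hjl' : adjPath j l with _ | _
      · exact ⟨fun _ => rfl, fun _ => hr'.comm _ _ (hjl.trans hjl')⟩
      · exact ⟨fun h => absurd h (hp.out _ _ (hjl.trans hjl')), fun h => absurd h (by simp)⟩
  refine ⟨fun x hx => ?_, fun x hx => ?_, fun x y hx hy hxy hj => ?_, fun x y hj => ?_⟩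
  · by_cases h3 : x = 3
    · simp only [if_pos h3]; exact hd'D
    · simp only [if_neg h3]; exact hp.mem x hx
  · simp only [if_neg (show x ≠ 3 by omega)]; exact hp.one x hx
  · have hold := hp.nbr x y hx hy hxy hj
    by_cases h7x : x = 7
    · by_cases h3y : y = 3
      · subst h7x h3y; exact absurd hj (by decide)
      · simpa [h7x, h3y] using hold
    by_cases h7y : y = 7
    · by_cases h3x : x = 3
      · subst h7y h3x; exact absurd hj (by decide)
      · simpa [h7y, h3x] using hold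
    simp only [hconj x hx h7x, hconj y hy h7y]
    exact conj_mem_nb hC.conj R hold
  · obtain ⟨hx, hy⟩ := joined_lt hj
    have hold := hp.out x y hj
    by_cases h7x : x = 7
    · by_cases h3y : y = 3
      · subst h7x h3y; simpa using fun k : Commute (p 7) (R * p 3 * R) => hout37 k.symm
      · simpa [h7x, h3y] using hold
    by_cases h7y : y = 7
    · by_cases h3x : x = 3
      · subst h7y h3x; simpa using hout37
      · simpa [h7y, h3x] using hold
    simp only [hconj x hx h7x, hconj y hy h7y, commute_conj_iff]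
    exact hold

/-- There is an automorphism which is not inner. -/
theorem exists_outer : ∃ α : MulAut G, α ∉ (MulAut.conj : G →* MulAut G).range := by
  obtain ⟨p, hp⟩ := exists_conf hC
  obtain ⟨R, hRD, hR8, cR8, nR7, cR, nR3, hp'⟩ := exists_twist hC hp
  obtain ⟨e, he⟩ := iso_of_conf hC hp
  obtain ⟨e', he'⟩ := iso_of_conf hC hp'
  refine ⟨e.symm.trans e', ?_⟩
  rintro ⟨z, hz⟩
  have hg : ∀ x, z * p (genNo x) * z⁻¹ = if genNo x = 3 then R * p 3 * R else p (genNo x) := fun x => by
    rw [← MulAut.conj_apply, hz, MulEquiv.trans_apply, show e.symm (p (genNo x)) = PresentedGroup.of x from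
      e.symm_apply_eq.2 (he x).symm, he']
  have hzx : ∀ x < 9, x ≠ 3 → Commute z (p x) := by
    intro x hx h3
    obtain ⟨g, rfl⟩ : ∃ g, genNo g = x := by
      interval_cases x
      exacts [⟨.a, rfl⟩, ⟨.b, rfl⟩, ⟨.c, rfl⟩, ⟨.d, rfl⟩, ⟨.e, rfl⟩, ⟨.f, rfl⟩, ⟨.g, rfl⟩, ⟨.h, rfl⟩,
        ⟨.i, rfl⟩]
    have := hg g
    rw [if_neg h3] at this
    exact mul_inv_eq_iff_eq_mul.1 this
  have hz3 : z * p 3 * z⁻¹ = R * p 3 * R := by simpa [genNo] using hg .d
  have hS := hC.set
  have hRR := mul_self hS hRD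
  have hinv : R⁻¹ = R := inv_eq hS hRD
  have h8 := hp.mem 8 (by norm_num)
  have hcom : ∀ x < 6, Commute (R * z) (p x) := by
    intro x hx
    by_cases h3 : x = 3
    · subst h3
      refine mul_inv_eq_iff_eq_mul.1 ?_
      rw [show R * z * p 3 * (R * z)⁻¹ = R * (z * p 3 * z⁻¹) * R⁻¹ by group, hz3, hinv]
      rw [← mul_assoc R (R * p 3) R, ← mul_assoc R R, hRR, one_mul, mul_assoc, hRR, mul_one]
    · exact (cR x (by omega) h3).mul_left (hzx x (by omega) h3)
  obtain ⟨C⟩ := hC.chart (p 8) h8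
  have hn : ∀ j, j < 7 → p j ∈ nb D (p 8) := fun j hj => by
    refine hp.nbr 8 j (by norm_num) (by omega) (by omega) ?_
    interval_cases j <;> rfl
  have hr' := hp.rel hC
  have A0 := at_pt hC (C := C) (hn 0 (by norm_num))
  obtain ⟨v1, A1, k01⟩ := exists_child hC h8 A0 (hn 1 (by norm_num)) (hp.out 0 1 rfl)
  obtain ⟨v2, A2, k12⟩ := exists_child hC h8 A1 (hn 2 (by norm_num)) (hp.out 1 2 rfl)
  obtain ⟨v3, A3, k23⟩ := exists_child hC h8 A2 (hn 3 (by norm_num)) (hp.out 2 3 rfl)
  obtain ⟨v4, A4, k34⟩ := exists_child hC h8 A3 (hn 4 (by norm_num)) (hp.out 3 4 rfl)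
  obtain ⟨v5, A5, k45⟩ := exists_child hC h8 A4 (hn 5 (by norm_num)) (hp.out 4 5 rfl)
  obtain ⟨hind, hconn⟩ := ind_path hC A0.iso A1.iso A2.iso A3.iso A4.iso A5.iso k01 k12 k23 k34 k45
    (A0.ortho hC h8 A2 (hr'.comm 0 2 rfl)) (A0.ortho hC h8 A3 (hr'.comm 0 3 rfl))
    (A0.ortho hC h8 A4 (hr'.comm 0 4 rfl)) (A0.ortho hC h8 A5 (hr'.comm 0 5 rfl))
    (A1.ortho hC h8 A3 (hr'.comm 1 3 rfl)) (A1.ortho hC h8 A4 (hr'.comm 1 4 rfl))
    (A1.ortho hC h8 A5 (hr'.comm 1 5 rfl)) (A2.ortho hC h8 A4 (hr'.comm 2 4 rfl))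
    (A2.ortho hC h8 A5 (hr'.comm 2 5 rfl)) (A3.ortho hC h8 A5 (hr'.comm 3 5 rfl))
  have hz8 : Commute (R * z) (p 8) := cR8.mul_left (hzx 8 (by norm_num) (by norm_num))
  have hz7 : Commute z (p 7) := hzx 7 (by norm_num) (by norm_num)
  rcases eq_one_or_self_of_commute hC h8 (C := C) hz8 ![p 0, p 1, p 2, p 3, p 4, p 5] _
    (by intro i; fin_cases i; exacts [A0, A1, A2, A3, A4, A5]) hind hconn
    (fun i => by fin_cases i <;> exact hcom _ (by norm_num)) with h | h
  · have : z = R := by rw [eq_inv_of_mul_eq_one_right h, hinv]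
    exact nR7 (this ▸ hz7)
  · have : z = R * p 8 := by rw [← h, ← mul_assoc, hRR, one_mul]
    exact nR7 (FischerPair.commute_of_commute_mul hS hRD h8 (hp.mem 7 (by norm_num)) hR8
      ((this ▸ hz7).symm)).1.symm

/-- Type M(22): `|Aut G| = 2 |G|`. -/
theorem card_mulAut_m22 (hD : IsThreeTranspositionGroup D) (hprim : IsPrimitiveUnderConj D)
    (h22 : IsOfTypeM22 G D) : Nat.card (MulAut G) = 2 * Nat.card G := by
  haveI : Finite (MulAut G) := Finite.of_injective (fun φ => (φ : G → G)) DFunLike.coe_injective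
  obtain ⟨α, hα⟩ := exists_outer hC
  refine le_antisymm (Fischer3T.card_mulAut_le_m22 hD hprim h22 (facts_of_m22 hD hprim h22)) ?_
  set f : G →* MulAut G := MulAut.conj
  have hcard : Nat.card f.range = Nat.card G :=
    (Nat.card_congr (MonoidHom.ofInjective (conj_injective_of_center hC.good.center)).toEquiv).symm
  rw [← hcard, ← f.range.index_mul_card]
  refine Nat.mul_le_mul_right _ ?_
  by_contra h
  have h0 : f.range.index ≠ 0 := Subgroup.index_ne_zero_of_finite
  have h1 : f.range.index = 1 := by omega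
  exact hα (Subgroup.index_eq_one.1 h1 ▸ Subgroup.mem_top α)

end Cfsg.Agent.Lib.Fischer3T37
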