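import Cfsg.Agent.Lib.Fischer3T37.PairLocal
import Cfsg.Agent.Lib.MinIndexUnitary.Moves

/-!
# `C(d₁ d₂)` in type M(22): automorphisms acting trivially on `C(d₁ d₂)` modulo its radical

Such an automorphism moves every element of the radical by a power of `d₁ d₂`; fixing `d₁`, it is the
conjugation by an element of the radical.
-/

set_option autoImplicit false
set_option linter.style.haveILetI false
set_option linter.unusedSectionVars false

namespace Cfsg.Agent.Lib.Fischer3T37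

open Cfsg Cfsg.Agent.Lib.ThreeTransp Cfsg.Agent.Lib.M22Struct66 Cfsg.Agent.Lib.FischerPair
open Cfsg.Agent.Lib.Classical (uT uInd uT_apply uInd_apply uExt hermSpace_std)
open Cfsg.Agent.Lib.MinIndexUnitary (suV_move)
open Cfsg.Agent.Lib.ThreeTransp.PSUSix (card' IsPt)

variable {G : Type*} [Group G] [Finite G] {D : Set G}

namespace Loc

variable {F : Type} [Field F] [Fintype F] {d₁ d₂ : G}
variable (S : Setup D F d₁ d₂)

local notation "hF" => S.hX.card
local notation "β" => Cfsg.hermForm 4 F 2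
local notation "σ" => Forms.qPowHom (card' S.hX.card)
local notation "hW" => hermSpace_std (card' S.hX.card) 4

/-- A group of automorphisms fixing `d₁ d₂`, trivial on its centraliser modulo the radical. -/
structure Acts (Q : Subgroup (MulAut G)) : Prop where
  carrier : (Q : Set (MulAut G)) = kernelSet (d₁ * d₂) S.Op
  two : IsPGroup 2 Q
  pres : ∀ φ : MulAut G, ∀ d ∈ D, φ d ∈ D

variable {S} {Q : Subgroup (MulAut G)}

namespace Acts

variable (A : Acts S Q) {q : MulAut G} (hq : q ∈ Q)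

include A

theorem conj_mem {e : G} (he : e ∈ S.Op) : MulAut.conj e ∈ Q := by
  have hj : Commute e (d₁ * d₂) := mem_Cp.1 (Kp_le_Cp _ _ (S.Op_le he))
  rw [← SetLike.mem_coe, A.carrier]
  refine ⟨?_, fun c hc => ?_⟩
  · rw [MulAut.conj_apply, hj.eq, mul_inv_cancel_right]
  · rw [MulAut.conj_apply, show c⁻¹ * (e * c * e⁻¹) = c⁻¹ * e * c⁻¹⁻¹ * e⁻¹ by group]
    exact S.Op.mul_mem (S.Op_conj (inv_mem hc) he) (S.Op.inv_mem he)

include hq

theorem spec : q (d₁ * d₂) = d₁ * d₂ ∧ ∀ c ∈ Cp d₁ d₂, c⁻¹ * q c ∈ S.Op := by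
  have h : q ∈ (Q : Set (MulAut G)) := hq
  rw [A.carrier] at h
  exact h

theorem pair : (q d₁ = d₁ ∧ q d₂ = d₂) ∨ (q d₁ = d₂ ∧ q d₂ = d₁) :=
  pair_eq S.hX.toCtx S.h1 S.h2 (A.pres q _ S.h1) (A.pres q _ S.h2.1) (fun e => S.h2.2.1 (q.injective e).symm)
    (S.h2.2.2.map q.toMonoidHom) ((map_mul q _ _).symm.trans (A.spec hq).1)

/-- A column is preserved. -/
theorem exists_col {w : Fin 4 → F} (hw : w ≠ 0) (hww : β w w = 0) (a : F) :
    ∃ a', q (S.col a w) = S.col a' w := by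
  have hx := S.mk_nb hw hww a
  have hxK := S.mk_Kp hw hww a
  have hE := (A.spec hq).2 _ (Kp_le_Cp _ _ hxK)
  obtain ⟨hEK, hE1⟩ := S.mem_Op.1 hE
  have hqK : q (S.col a w) ∈ Kp d₁ d₂ := by
    have := mul_mem hxK hEK
    rwa [mul_inv_cancel_left] at this
  have hnb : q (S.col a w) ∈ nb D d₁ := by
    refine ⟨A.pres q _ hx.1, fun h => ?_, (mem_Kp.1 hqK).1.symm⟩
    rcases A.pair hq with ⟨e1, -⟩ | ⟨-, e2⟩
    · exact hx.2.1 (q.injective (h.trans e1.symm))
    · exact (S.mk_nb_two hw hww a).2.1 (q.injective (h.trans e2.symm))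
  refine S.exists_mk_of_phi hw hww hnb (mem_Kp.1 hqK).2 a ?_
  refine (inv_mul_eq_one.1 ?_).symm
  rw [← map_inv, ← map_mul, ← hE1]
  exact congrArg S.phi (Subtype.ext rfl)

/-- On a column the action is a translation. -/
theorem translation {w : Fin 4 → F} (hw : w ≠ 0) (hww : β w w = 0) :
    ∃ t : F, ∀ a, q (S.col a w) = S.col (a + t) w := by
  choose π hπ using A.exists_col hq hw hww
  have hinj : ∀ {a b : F}, π a = π b → a = b := fun {a b} e =>
    S.mk_inj hw hww (q.injective ((hπ a).trans ((congrArg (S.col · w) e).trans (hπ b).symm)))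
  have hlin : ∀ ν : F, π ν - π 0 = ν * (π 1 - π 0) := by
    intro ν
    by_cases hν : ν = 0
    · subst hν; simp
    obtain ⟨k4, hk4, hw4⟩ := suV_move (card' hF) (m := 4) (by norm_num) hw hww
      (v := ν⁻¹ • w) (smul_ne_zero (inv_ne_zero hν) hw)
      (by rw [(hW).smul_left, (hW).smul_right, hww, mul_zero, mul_zero])
    obtain ⟨k, hk⟩ := S.exists_torus_el hw hww hν hk4 hw4
    obtain ⟨heK, he⟩ := S.mem_Op.1 ((A.spec hq).2 (k : G) (Kp_le_Cp _ _ k.2))
    obtain ⟨w', c', hc', ee⟩ := S.rad_data he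
    set s := β w w' with hs
    have key : ∀ a, π (ν * a) = ν * (π a - s) := by
      intro a
      refine S.mk_inj hw hww ?_
      rw [← hπ, ← hk a, map_mul, map_mul, map_inv, hπ, show q (k : G) = k * ((k : G)⁻¹ * q k) by group]
      calc (k : G) * ((k : G)⁻¹ * q k) * S.col (π a) w * ((k : G) * ((k : G)⁻¹ * q k))⁻¹ =
            k * (((k : G)⁻¹ * q k) * S.col (π a) w * ((k : G)⁻¹ * q k)⁻¹) * (k : G)⁻¹ := by group
        _ = k * S.col (π a - s) w * (k : G)⁻¹ := by rw [← S.conj_mk_rad hw hww ee (π a)]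
        _ = S.col (ν * (π a - s)) w := hk _
    have h1 := key 1
    have h0 := key 0
    rw [mul_one] at h1
    rw [mul_zero] at h0
    linear_combination h1 - h0
  set c := π 1 - π 0 with hc
  have hπa : ∀ a, π a = c * a + π 0 := fun a => by linear_combination hlin a
  obtain ⟨n, hn⟩ := A.two ⟨q, hq⟩
  have hqn : q ^ 2 ^ n = 1 := congrArg Subtype.val hn
  have hit : ∀ m : ℕ, ∀ a, ∃ r : F, (q ^ m) (S.col a w) = S.col r w ∧
      ∀ b, ∃ r', (q ^ m) (S.col b w) = S.col r' w ∧ r - r' = c ^ m * (a - b) := by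
    intro m
    induction m with
    | zero => exact fun a => ⟨a, by simp, fun b => ⟨b, by simp, by simp⟩⟩
    | succ m ih =>
      intro a
      obtain ⟨r, hr, hrb⟩ := ih a
      refine ⟨π r, by rw [pow_succ', MulAut.mul_apply, hr, hπ], fun b => ?_⟩
      obtain ⟨r', hr', he⟩ := hrb b
      refine ⟨π r', by rw [pow_succ', MulAut.mul_apply, hr', hπ], ?_⟩
      rw [hπa r, hπa r', pow_succ]
      linear_combination c * he
  have hpow : c ^ 2 ^ n = 1 := by
    obtain ⟨r, hr, hrb⟩ := hit (2 ^ n) 1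
    obtain ⟨r', hr', he⟩ := hrb 0
    rw [hqn, MulAut.one_apply] at hr hr'
    rw [← S.mk_inj hw hww hr, ← S.mk_inj hw hww hr'] at he
    linear_combination -he
  have hc0 : c ≠ 0 := fun e => one_ne_zero (hinj (sub_eq_zero.1 e))
  have hc1 : c = 1 := by
    have h3 : orderOf c ∣ 3 := orderOf_dvd_of_pow_eq_one (PSUSix.pow_three hF hc0)
    have h2 : orderOf c ∣ 2 ^ n := orderOf_dvd_of_pow_eq_one hpow
    exact orderOf_eq_one_iff.1 (Nat.eq_one_of_dvd_coprimes
      (((Nat.coprime_primes Nat.prime_three Nat.prime_two).2 (by norm_num)).pow_right n) h3 h2)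
  exact ⟨π 0, fun a => by rw [hπ, hπa, hc1, one_mul]⟩

/-- The radical is moved by powers of `d₁ d₂` only. -/
theorem move {x : G} (hx : x ∈ S.Op) : Two d₁ d₂ (x⁻¹ * q x) := by
  rw [S.Op_eq_closure] at hx
  induction hx using Subgroup.closure_induction with
  | mem x hx =>
    rcases hx with (rfl | rfl) | ⟨w, hw, hww, rfl⟩
    · rcases A.pair hq with ⟨e1, -⟩ | ⟨e1, -⟩ <;> rw [e1]
      · exact Or.inl (inv_mul_cancel _)
      · exact Or.inr (by rw [inv_eq S.set S.h1])
    · rcases A.pair hq with ⟨-, e2⟩ | ⟨-, e2⟩ <;> rw [e2]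
      · exact Or.inl (inv_mul_cancel _)
      · exact Or.inr (by rw [inv_eq S.set S.h2.1, S.h2.2.2.eq])
    · obtain ⟨t, ht⟩ := A.translation hq hw hww
      obtain ⟨w', hw'⟩ := exists_pair_value hF hw (-t)
      obtain ⟨c', hc'⟩ := (hW).exists_fill w'
      obtain ⟨e, he, ee⟩ := S.exists_rad hc'
      have hcol : ∀ a, q (S.col a w) = (e : G) * S.col a w * (e : G)⁻¹ := fun a => by
        rw [ht, S.conj_mk_rad hw hww ee, hw', sub_neg_eq_add]
      set p := S.col 0 w * S.col 1 w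
      have hqp : q p = (e : G) * p * (e : G)⁻¹ := by simp only [p, map_mul, hcol]; group
      have hE : (e : G) ∈ S.Op := S.mem_Op.2 ⟨e.2, he⟩
      have h := S.comm_two (inv_mem (S.col_pair_mem hw hww 1)) hE
      rw [hqp]
      rwa [inv_inv, show p⁻¹ * (e : G) * p * (e : G)⁻¹ = p⁻¹ * ((e : G) * p * (e : G)⁻¹) by group] at h
  | one => exact Or.inl (by simp)
  | mul a b ha hb iha ihb =>
    have hbK : b⁻¹ ∈ Kp d₁ d₂ := inv_mem (S.Op_le (S.Op_eq_closure ▸ hb))
    have h := S.two_central iha hbK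
    rw [inv_inv] at h
    rw [map_mul, show (a * b)⁻¹ * (q a * q b) = b⁻¹ * (a⁻¹ * q a) * b * (b⁻¹ * q b) by group, h]
    exact S.two_mul iha ihb
  | inv a ha iha =>
    have haK : a ∈ Kp d₁ d₂ := S.Op_le (S.Op_eq_closure ▸ ha)
    have h := S.two_central (S.two_inv iha) haK
    rw [map_inv, show a⁻¹⁻¹ * (q a)⁻¹ = a * (a⁻¹ * q a)⁻¹ * a⁻¹ by group, h]
    exact S.two_inv iha

omit hq

/-- The member outside `C(d₂)` used as origin. -/
theorem exists_outside {x : G} (hx : x ∈ nb D d₁) (hc : ¬ Commute x d₂) :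
    ∃ k ∈ S.Op, x = k * S.mb ((0 : F), (1 : F), (0 : Fin 4 → F)) * k⁻¹ := by
  obtain ⟨p, hp, hpp, rfl⟩ := exists_point S hx
  have hb0 : (base6 F) ≠ 0 := fun h => one_ne_zero (Prod.ext_iff.1 h).1
  have hy : p.2.1 ≠ 0 := fun e => hc (by
    have h : Commute (S.mb p) (S.mb (base6 F)) := by
      rw [S.commute_mb hp hpp hb0 (by simp [ext6, uExt, (hW).zero_left]), Setup.ext6_base, e]
    rwa [S.mb_base] at h)
  obtain ⟨a, b, v⟩ := p
  have hfill : a / b + σ (a / b) + β (b⁻¹ • v) (b⁻¹ • v) = 0 := by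
    simp only [ext6, uExt] at hpp
    have hσb : σ b ≠ 0 := fun e => hy ((map_eq_zero_iff _ (σ).injective).1 e)
    rw [(hW).smul_left, (hW).smul_right, map_div₀, map_inv₀]
    field_simp at hpp ⊢
    linear_combination hpp
  obtain ⟨k, hk, ek⟩ := S.exists_rad hfill
  refine ⟨k, S.mem_Op.2 ⟨k.2, hk⟩, ?_⟩
  have h0 : (((0 : F), (1 : F), (0 : Fin 4 → F))) ≠ 0 := fun h => one_ne_zero (Prod.ext_iff.1 (Prod.ext_iff.1 h).2).1
  have h00 : ext6 hF ((0 : F), (1 : F), (0 : Fin 4 → F)) (0, 1, 0) = 0 := by simp [ext6, uExt, (hW).zero_left]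
  rw [S.conj_mb k h0 h00]
  obtain ⟨hx', -⟩ := S.mb_spec hp hpp
  have he : S.co.mat (S.theta k) ((0 : F), (1 : F), (0 : Fin 4 → F)) = (a / b, 1, b⁻¹ • v) := by
    rw [ek, uT_apply]; simp [(hW).zero_left]
  rw [he]
  have hne : ((a / b, (1 : F), b⁻¹ • v) : E6 F) ≠ 0 :=
    fun h => one_ne_zero (Prod.ext_iff.1 (Prod.ext_iff.1 h).2).1
  refine (S.mb_eq_iff hp hpp hne ?_).2 ⟨b, hy, ?_⟩
  · simp only [ext6, uExt, map_one, mul_one, one_mul]; exact hfill
  · simp only [Prod.smul_mk, smul_eq_mul, mul_one, smul_inv_smul₀ (show b ≠ 0 from hy), mul_div_cancel₀ a (show b ≠ 0 from hy)]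

/-- Fixing `d₁` it is conjugation by an element of the radical. -/
theorem eq_conj (hfix : ∀ φ : MulAut G, φ d₁ = d₁ → (∀ x ∈ nb D d₁, φ x = x) → φ = 1 ∨ φ = MulAut.conj d₁)
    (hq : q ∈ Q) (h1 : q d₁ = d₁) : ∃ e ∈ S.Op, q = MulAut.conj e := by
  set y₀ := S.mb ((0 : F), (1 : F), (0 : Fin 4 → F)) with hy₀def
  have h0 : (((0 : F), (1 : F), (0 : Fin 4 → F))) ≠ 0 := fun h => one_ne_zero (Prod.ext_iff.1 (Prod.ext_iff.1 h).2).1
  have h00 : ext6 hF ((0 : F), (1 : F), (0 : Fin 4 → F)) (0, 1, 0) = 0 := by simp [ext6, uExt, (hW).zero_left]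
  have hb0 : (base6 F) ≠ 0 := fun h => one_ne_zero (Prod.ext_iff.1 h).1
  have hbb : ext6 hF (base6 F) (base6 F) = 0 := by simp [ext6, uExt, (hW).zero_left]
  obtain ⟨hy₀, -⟩ := S.mb_spec h0 h00
  have hy₀c : ¬ Commute y₀ d₂ := by
    intro h
    have h' : Commute y₀ (S.mb (base6 F)) := by rwa [S.mb_base]
    rw [S.commute_mb h0 h00 hb0 hbb, Setup.ext6_base] at h'
    exact one_ne_zero h'
  have h2 : q d₂ = d₂ := ((A.pair hq).resolve_right fun e => S.h2.2.1 (e.1.symm.trans h1)).2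
  have hback : ∀ {u v : G}, Commute (q u) (q v) → Commute u v := fun {u v} h => by
    simpa using h.map q.symm.toMonoidHom
  have hy1 : q y₀ ∈ nb D d₁ := ⟨A.pres q _ hy₀.1, fun h => hy₀.2.1 (q.injective (h.trans h1.symm)), by
    have := hy₀.2.2.map q.toMonoidHom
    simpa [h1] using this⟩
  obtain ⟨k, hk, hky⟩ := A.exists_outside hy1 fun h => hy₀c (hback (u := y₀) (v := d₂) (by rwa [h2]))
  set q' := (MulAut.conj k)⁻¹ * q with hq'def
  have hq' : q' ∈ Q := Q.mul_mem (Q.inv_mem (A.conj_mem hk)) hq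
  have hcongr : ∀ u, q' u = k⁻¹ * q u * k := fun u => by
    rw [hq'def, ← map_inv, MulAut.mul_apply, MulAut.conj_apply, inv_inv]
  have hK := mem_Kp.1 (S.Op_le hk)
  have h1' : q' d₁ = d₁ := by rw [hcongr, h1, mul_assoc, ← hK.1.eq, inv_mul_cancel_left]
  have h2' : q' d₂ = d₂ := by rw [hcongr, h2, mul_assoc, ← hK.2.eq, inv_mul_cancel_left]
  have hy' : q' y₀ = y₀ := by rw [hcongr, hky, ← hy₀def]; group
  have hcolfix : ∀ (w : Fin 4 → F) (hw : w ≠ 0) (hww : β w w = 0) (a : F), q' (S.col a w) = S.col a w := by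
    intro w hw hww a
    obtain ⟨t, ht⟩ := A.translation hq' hw hww
    suffices t = 0 by rw [ht, this, add_zero]
    have hc0 : Commute (S.col 0 w) y₀ := by
      rw [Setup.col, hy₀def, S.commute_mb (Setup.col_ne hw 0) (S.col_iso hww 0) h0 h00]
      simp [ext6, uExt, (hW).zero_right]
    have h := hc0.map q'.toMonoidHom
    simp only [MulEquiv.coe_toMonoidHom] at h
    rw [ht, hy', zero_add, Setup.col, hy₀def, S.commute_mb (Setup.col_ne hw t) (S.col_iso hww t) h0 h00] at h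
    simpa [ext6, uExt, (hW).zero_right] using h
  have hOp : ∀ x ∈ S.Op, q' x = x := by
    have hle : S.Op ≤ q'.toMonoidHom.eqLocus (MonoidHom.id G) := by
      rw [S.Op_eq_closure, Subgroup.closure_le]
      rintro x ((rfl | rfl) | ⟨w, hw, hww, rfl⟩)
      · exact h1'
      · exact h2'
      · show q' (S.col 0 w * S.col 1 w) = _
        rw [map_mul, hcolfix w hw hww, hcolfix w hw hww]
        rfl
    exact fun x hx => hle hx
  have hnb : ∀ x ∈ nb D d₁, q' x = x := by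
    intro x hx
    by_cases hc : Commute x d₂
    · obtain ⟨p, hp, hpp, h21, rfl⟩ := S.exists_mb hx hc
      obtain ⟨a, b, v⟩ := p
      simp only at h21
      subst h21
      by_cases hv : v = 0
      · subst hv
        have ha : a ≠ 0 := fun e => hp (by rw [e]; rfl)
        rw [(S.mb_eq_iff hp hpp hb0 hbb).2 ⟨a, ha, by simp⟩, S.mb_base]
        exact h2'
      · exact hcolfix v hv (by simpa [ext6, uExt] using hpp) a
    · obtain ⟨l, hl, rfl⟩ := A.exists_outside hx hc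
      rw [← hy₀def, map_mul, map_mul, map_inv, hOp l hl, hy']
  have hq'' : q = MulAut.conj k * q' := by rw [hq'def, mul_inv_cancel_left]
  rcases hfix q' h1' hnb with e | e
  · exact ⟨k, hk, by rw [hq'', e, mul_one]⟩
  · exact ⟨k * d₁, S.Op.mul_mem hk (S.four_mem_Op (Or.inr (Or.inl rfl))), by rw [hq'', e, map_mul]⟩

end Acts

end Loc

end Cfsg.Agent.Lib.Fischer3T37
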