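import Cfsg.Agent.Lib.FischerPair.Extra
import Cfsg.Agent.Lib.Fischer3T37.Extraspecial

/-!
# `C(d₁ d₂)` in type M(22): the radical modulo the four-group, and odd subgroups it normalises

Consumed by the centraliser of an inner involution in the automorphism group (S5473).
-/

set_option autoImplicit false
set_option linter.style.haveILetI false
set_option linter.unusedSectionVars false

namespace Cfsg.Agent.Lib.Fischer3T37

open Cfsg Cfsg.Agent.Lib.ThreeTransp Cfsg.Agent.Lib.M22Struct66 Cfsg.Agent.Lib.FischerPair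
open Cfsg.Agent.Lib.Classical (uT uInd uT_apply uInd_apply uExt hermSpace_std)
open Cfsg.Agent.Lib.ThreeTransp.PSUSix (card' IsPt)

variable {G : Type*} [Group G] {D : Set G}

/-- Two commuting pairs of members with the same product coincide. -/
theorem pair_eq (hX : Ctx D) {d₁ d₂ a b : G} (h1 : d₁ ∈ D) (h2 : d₂ ∈ nb D d₁) (ha : a ∈ D) (hb : b ∈ D)
    (hne : a ≠ b) (hab : Commute a b) (hprod : a * b = d₁ * d₂) :
    (a = d₁ ∧ b = d₂) ∨ (a = d₂ ∧ b = d₁) := by
  have hS := hX.set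
  have hxa : Commute a (d₁ * d₂) := hprod ▸ ((Commute.refl a).mul_right hab)
  have hxb : Commute b (d₁ * d₂) := hprod ▸ (hab.symm.mul_right (Commute.refl b))
  obtain ⟨ha1, ha2⟩ := commute_of_commute_mul hS h1 h2.1 ha h2.2.1.symm hxa
  obtain ⟨hb1, hb2⟩ := commute_of_commute_mul hS h1 h2.1 hb h2.2.1.symm hxb
  by_cases e1 : a = d₁
  · exact Or.inl ⟨e1, mul_left_cancel (e1 ▸ hprod : d₁ * b = d₁ * d₂)⟩
  by_cases e2 : a = d₂
  · refine Or.inr ⟨e2, mul_left_cancel (a := d₂) ?_⟩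
    rw [e2] at hprod
    rw [hprod, h2.2.2.eq]
  exfalso
  by_cases e3 : b = d₂
  · rw [e3] at hprod
    exact e1 (mul_right_cancel hprod)
  by_cases e4 : b = d₁
  · rw [e4, h2.2.2.eq] at hprod
    exact e2 (mul_right_cancel hprod)
  refine hX.noFour [a, b, d₂, d₁] ?_ rfl ?_ ?_ ?_
  · simp [e1, e2, e3, e4, hne, h2.2.1]
  · simp [ha, hb, h1, h2.1]
  · simp [hab, hab.symm, ha1, ha1.symm, ha2, ha2.symm, hb1, hb1.symm, hb2, hb2.symm, h2.2.2, h2.2.2.symm,
      Commute.refl]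
  · simp only [List.prod_cons, List.prod_nil, mul_one]
    rw [← mul_assoc, hprod, mul_assoc, mul_self_assoc hS h2.1, mul_self hS h1]

/-- An element of odd order commuting with a product of two commuting members commutes with both. -/
theorem commute_pair_of_odd (hX : Ctx D) {x y k : G} (hx : x ∈ D) (hy : y ∈ nb D x) (hk : Odd (orderOf k))
    (hc : Commute k (x * y)) : Commute k x ∧ Commute k y := by
  rcases pair_cases hX hx hy (mem_Cp.2 hc) with ⟨e1, e2⟩ | ⟨e1, e2⟩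
  · exact ⟨mul_inv_eq_iff_eq_mul.1 e1, mul_inv_eq_iff_eq_mul.1 e2⟩
  exfalso
  refine hy.2.1 ?_
  obtain ⟨m, hm⟩ := hk
  have hsq : Commute (k * k) x := by
    refine mul_inv_eq_iff_eq_mul.1 ?_
    rw [show k * k * x * (k * k)⁻¹ = k * (k * x * k⁻¹) * k⁻¹ by group, e1, e2]
  have hkk : k = (k * k) ^ (m + 1) := by
    have h : k ^ (2 * m + 1) = 1 := hm ▸ pow_orderOf_eq_one k
    rw [← pow_two, ← pow_mul, show 2 * (m + 1) = 2 * m + 1 + 1 by ring, pow_succ, h, one_mul]
  have hkx : Commute k x := hkk ▸ hsq.pow_left (m + 1)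
  rw [← e1, hkx.eq, mul_inv_cancel_right]

namespace Loc

variable {F : Type} [Field F] [Fintype F] {d₁ d₂ : G}
variable (S : Setup D F d₁ d₂)

local notation "hF" => S.hX.card
local notation "β" => Cfsg.hermForm 4 F 2
local notation "σ" => Forms.qPowHom (card' S.hX.card)
local notation "hW" => hermSpace_std (card' S.hX.card) 4

/-- Every neighbour of `d₁` has coordinates. -/
theorem exists_point {x : G} (hx : x ∈ nb D d₁) :
    ∃ p : E6 F, p ≠ 0 ∧ ext6 hF p p = 0 ∧ x = S.mb p := by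
  set p := S.co.e.symm (S.C1.pt hx) with hp'
  have he : S.co.e p = S.C1.pt hx := S.co.e.apply_symm_apply _
  have hP : IsPt (S.co.e p) := he ▸ S.C1.isPt hx
  obtain ⟨hp, hpp⟩ := S.isPt_iff.1 hP
  exact ⟨p, hp, hpp, S.mb_eq hp hpp hx (by rw [he, S.C1.ψ_inc])⟩

/-- A member commuting with two members of one column commutes with `d₂`. -/
theorem commute_two {w : Fin 4 → F} (hw : w ≠ 0) (hww : β w w = 0) {a b : F} (hab : a ≠ b) {z : G}
    (hz : z ∈ nb D d₁) (ha : Commute z (S.col a w)) (hb : Commute z (S.col b w)) : Commute z d₂ := by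
  obtain ⟨p, hp, hpp, rfl⟩ := exists_point S hz
  rw [Setup.col, S.commute_mb hp hpp (Setup.col_ne hw a) (S.col_iso hww a)] at ha
  rw [Setup.col, S.commute_mb hp hpp (Setup.col_ne hw b) (S.col_iso hww b)] at hb
  simp only [ext6, uExt, map_zero, mul_zero, zero_add] at ha hb
  have h : p.2.1 * σ (a - b) = 0 := by rw [map_sub]; linear_combination ha - hb
  have hb0 : (base6 F) ≠ 0 := fun h => one_ne_zero (Prod.ext_iff.1 h).1
  have hc : Commute (S.mb p) (S.mb (base6 F)) := by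
    rw [S.commute_mb hp hpp hb0 (by simp [ext6, uExt, (hW).zero_left]), Setup.ext6_base]
    exact (mul_eq_zero.1 h).resolve_right fun h0 =>
      hab (sub_eq_zero.1 ((map_eq_zero_iff _ (σ).injective).1 h0))
  rwa [S.mb_base] at hc

/-- An odd-order element of `C(d₁)` inverted by `d₂` fixes no pair of a column. -/
theorem eq_one_of_column {w : Fin 4 → F} (hw : w ≠ 0) (hww : β w w = 0) {a b : F} (hab : a ≠ b) {k : G}
    (hk : Odd (orderOf k)) (hk1 : Commute k d₁) (hinv : d₂ * k * d₂ = k⁻¹)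
    (hc : Commute k (S.col a w * S.col b w)) : k = 1 := by
  have hy : S.col b w ∈ nb D (S.col a w) := ⟨(S.mk_nb hw hww b).1,
    fun h => hab (S.mk_inj hw hww h).symm, S.mk_commute hw hww a b⟩
  obtain ⟨hca, hcb⟩ := commute_pair_of_odd S.hX.toCtx (S.mk_nb hw hww a).1 hy hk hc
  have hS := S.set
  have hz : k * d₂ * k⁻¹ ∈ nb D d₁ := S.conj_nb hk1 S.h2
  have hcomm : ∀ c : F, Commute k (S.col c w) → Commute (k * d₂ * k⁻¹) (S.col c w) := fun c h =>
    ((h.mul_left (mem_Kp.1 (S.mk_Kp hw hww c)).2.symm).mul_left h.inv_left)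
  have hzc := commute_two S hw hww hab hz (hcomm a hca) (hcomm b hcb)
  have h2 : k * d₂ * k⁻¹ = k * k * d₂ := by
    rw [← hinv]
    simp only [← mul_assoc]
    rw [mul_assoc k d₂ d₂, mul_self hS S.h2.1, mul_one]
  have hsq : k * d₂ * k⁻¹ * (k * d₂ * k⁻¹) = 1 := mul_self hS hz.1
  have h4 : (k * k) * (k * k) = 1 := by
    have h3 : (k * d₂ * k⁻¹ * d₂) * (k * d₂ * k⁻¹ * d₂) = 1 := by
      rw [hzc.symm.mul_mul_mul_comm, hsq, mul_self hS S.h2.1, one_mul]
    rwa [h2, mul_assoc (k * k) d₂, mul_self hS S.h2.1, mul_one] at h3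
  have h5 : orderOf k ∣ 2 ^ 2 := orderOf_dvd_of_pow_eq_one (by rw [show (2:ℕ) ^ 2 = 2 * 2 from rfl, pow_mul, pow_two, pow_two, h4])
  have h6 := ((Nat.coprime_two_left.2 hk).symm.pow_right 2).eq_one_of_dvd h5
  exact orderOf_eq_one_iff.1 h6

variable [Finite G]

/-- An odd subgroup of `C(d₁)` inverted by `d₁ d₂` and normalised by the radical is trivial. -/
theorem odd_eq_bot (K : Subgroup G) (hK : Odd (Nat.card K)) (hK1 : ∀ k ∈ K, Commute k d₁)
    (hinv : ∀ k ∈ K, d₁ * d₂ * k * (d₁ * d₂) = k⁻¹) (hn : ∀ e ∈ S.Op, ∀ k ∈ K, e * k * e⁻¹ ∈ K) :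
    K = ⊥ := by
  obtain ⟨w, hw, hww, -⟩ := exists_torus hF
  obtain ⟨ν, hν0, hν1⟩ : ∃ ν : F, ν ≠ 0 ∧ ν ≠ 1 := by
    obtain ⟨ν, hν⟩ := S.exists_ne_conj
    exact ⟨ν, fun h => hν (by rw [h, map_zero]), fun h => hν (by rw [h, map_one])⟩
  have hS := S.set
  have hodd : ∀ k ∈ K, Odd (orderOf k) := fun k hk => hK.of_dvd_nat (by
    rw [← Subgroup.orderOf_mk k hk]; exact orderOf_dvd_natCard _)
  have hd2 : ∀ k ∈ K, d₂ * k * d₂ = k⁻¹ := fun k hk => by
    rw [← hinv k hk]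
    calc d₂ * k * d₂ = d₂ * k * (d₁ * (d₁ * d₂)) := by rw [mul_self_assoc hS S.h1]
      _ = d₂ * (k * d₁) * (d₁ * d₂) := by simp only [mul_assoc]
      _ = d₂ * (d₁ * k) * (d₁ * d₂) := by rw [(hK1 k hk).eq]
      _ = d₁ * d₂ * k * (d₁ * d₂) := by rw [← mul_assoc d₂, ← S.h2.2.2.eq]
  set x : G := S.col 0 w
  set y : G := S.col 1 w
  have hpp : x * y * (x * y) = 1 := by
    rw [(S.mk_commute hw hww 1 0).mul_mul_mul_comm, S.col_sq hw hww, S.col_sq hw hww, one_mul]
  have hpE : x * y ∈ S.Op := S.col_pair_mem hw hww 1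
  have hpinv : ∀ k ∈ K, x * y * k * (x * y) = k⁻¹ := by
    refine inverts_of_fix_trivial hpp K (fun k hk => ?_) fun k hk h =>
      eq_one_of_column S hw hww (zero_ne_one (α := F)) (hodd k hk) (hK1 k hk) (hd2 k hk) ?_
    · have := hn _ hpE k hk
      rwa [inv_eq_of_mul_eq_one_right hpp] at this
    · show k * (x * y) = x * y * k
      conv_lhs => rw [← h]
      rw [mul_assoc (x * y * k), hpp, mul_one]
  have hν' : ν ≠ 1 + ν := fun e => one_ne_zero (α := F) (by linear_combination -e)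
  have hpairν : S.col ν w * S.col (1 + ν) w ∈ S.Op := by
    have h := S.Op.mul_mem (S.col_pair_mem hw hww ν) (S.col_pair_mem hw hww (1 + ν))
    rwa [(S.mk_commute hw hww 0 ν).eq, mul_assoc, mul_self_assoc hS (S.mk_nb hw hww 0).1] at h
  have h4 : Four d₁ d₂ (S.col ν w * S.col (1 + ν) w * S.col 1 w * S.col 0 w) := by
    obtain ⟨w', hw'⟩ := exists_pair_value hF hw (0 - ν)
    obtain ⟨c', hc'⟩ := (hW).exists_fill w'
    obtain ⟨e, he, ee⟩ := S.exists_rad hc'
    have e0 : (e : G) * x * (e : G)⁻¹ = S.col ν w := by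
      rw [S.conj_mk_rad hw hww ee 0, hw', sub_sub_cancel]
    have e1 : (e : G) * y * (e : G)⁻¹ = S.col (1 + ν) w := by
      rw [S.conj_mk_rad hw hww ee 1, hw', zero_sub, sub_neg_eq_add]
    have heq : (e : G) * (x * y) * (e : G)⁻¹ * (x * y)⁻¹ =
        S.col ν w * S.col (1 + ν) w * S.col 1 w * S.col 0 w := by
      rw [← e0, ← e1, mul_inv_rev, inv_eq hS (S.mk_nb hw hww 0).1, inv_eq hS (S.mk_nb hw hww 1).1]
      group
    rw [← heq]
    exact S.comm_four (S.mem_Op.2 ⟨e.2, he⟩) hpE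
  have hquad := S.col_quad hw hww one_ne_zero hν0 hν1 h4
  refine eq_bot_iff.2 fun k hk => Subgroup.mem_bot.2 ?_
  refine eq_one_of_column S hw hww hν' (hodd k hk) (hK1 k hk) (hd2 k hk) ?_
  have hd2p : Commute d₂ (x * y) :=
    (mem_Kp.1 (S.mk_Kp hw hww 0)).2.symm.mul_right (mem_Kp.1 (S.mk_Kp hw hww 1)).2.symm
  have hkc : Commute k (d₂ * (x * y)) := by
    have h : d₂ * (x * y) * k * (d₂ * (x * y)) = k := by
      calc d₂ * (x * y) * k * (d₂ * (x * y)) = d₂ * (x * y * k * (x * y)) * d₂ := by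
            nth_rw 2 [hd2p.eq]; simp only [mul_assoc]
        _ = k := by rw [hpinv k hk, hd2 _ (K.inv_mem hk), inv_inv]
    have h2 : d₂ * (x * y) * (d₂ * (x * y)) = 1 := by
      rw [hd2p.symm.mul_mul_mul_comm, mul_self hS S.h2.1, hpp, one_mul]
    show k * (d₂ * (x * y)) = d₂ * (x * y) * k
    conv_lhs => rw [← h]
    rw [mul_assoc (d₂ * (x * y) * k), h2, mul_one]
  have hprod : d₁ * (d₂ * (x * y)) = S.col ν w * S.col (1 + ν) w := by
    have hyx : y * x * (x * y) = 1 := by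
      rw [mul_assoc, mul_self_assoc hS (S.mk_nb hw hww 0).1, mul_self hS (S.mk_nb hw hww 1).1]
    calc d₁ * (d₂ * (x * y)) = d₁ * d₂ * (x * y) := (mul_assoc _ _ _).symm
      _ = S.col ν w * S.col (1 + ν) w * (y * x * (x * y)) := by
          rw [← hquad]; simp only [mul_assoc]; rfl
      _ = _ := by rw [hyx, mul_one]
  exact hprod ▸ (hK1 k hk).mul_right hkc

/-- An element acting trivially on the radical modulo the four-group lies in it. -/
theorem faith {c : G} (hc : c ∈ Cp d₁ d₂) (h : ∀ x ∈ S.Op, Four d₁ d₂ (c * x * c⁻¹ * x⁻¹)) :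
    c ∈ S.Op := by
  have hKfaith : ∀ k : Kp d₁ d₂, (∀ x ∈ S.Op, Four d₁ d₂ ((k : G) * x * (k : G)⁻¹ * x⁻¹)) →
      S.phi k = 1 := by
    intro k hk
    rw [S.phi_eq_one]
    obtain ⟨w, c, hc, e⟩ := S.co.lev_spec (S.theta k)
    refine Subtype.ext (LinearEquiv.ext fun w' => ?_)
    obtain ⟨c', hc'⟩ := (hW).exists_fill w'
    obtain ⟨l, hl, el⟩ := S.exists_rad hc'
    set v : Kp d₁ d₂ := k * l * k⁻¹ * l⁻¹ with hv
    have hv4 : Four d₁ d₂ (v : G) := by
      simpa [hv] using hk _ (S.mem_Op.2 ⟨l.2, hl⟩)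
    obtain ⟨hvK, hv1⟩ := S.mem_Op.1 (S.four_mem_Op hv4)
    have hv1' : S.phi v = 1 := hv1
    obtain ⟨u, d, hd, ev⟩ := S.rad_data hv1'
    have hu : u = 0 := by
      refine (hW).nondeg u fun z => ?_
      obtain ⟨ν, hν⟩ := S.exists_ne_conj
      -- both `z` and `ν • z` give a symmetric value
      have key : ∀ z, σ (β z u) = β z u := fun z => by
        obtain ⟨c'', hc''⟩ := (hW).exists_fill z
        obtain ⟨l', hl', el'⟩ := S.exists_rad hc''
        have hcomm : l' * v = v * l' := Subtype.ext (S.four_central hv4 l').eq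
        have h1 := S.mat_mul l' v (0, 1, 0)
        rw [hcomm, S.mat_mul v l', el', ev, uT_apply, uT_apply, uT_apply, uT_apply] at h1
        have h2 := congrArg Prod.fst h1
        simp [(hW).zero_left] at h2
        have h3 : β u z = β z u := by linear_combination h2
        rw [(hW).symm, h3]
      have k1 := key z
      have k2 := key (ν • z)
      rw [(hW).smul_left, map_mul, k1] at k2
      have k3 : (σ ν - ν) * β z u = 0 := by linear_combination k2
      rw [← (hW).symm, (mul_eq_zero.1 k3).resolve_left (sub_ne_zero.2 hν), map_zero]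
    subst hu
    have hkl : v * (l * k) = k * l := by rw [hv]; group
    have h1 := S.mat_mul v (l * k) (0, 1, 0)
    rw [hkl, S.mat_mul l k, S.mat_mul k l, e, el, ev] at h1
    simp only [LinearEquiv.mul_apply, uInd_apply, uT_apply] at h1
    have h2 := congrArg (fun p : E6 F => p.2.2) h1
    simp only [map_zero, zero_add, one_smul, smul_zero, add_zero] at h2
    have h3 : (S.co.lev (S.theta k) : (Fin 4 → F) ≃ₗ[F] (Fin 4 → F)) w' + w = w + w' := h2
    rw [add_comm w w'] at h3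
    exact add_right_cancel h3
  have hfour : ∀ {g v : G}, g ∈ Cp d₁ d₂ → Four d₁ d₂ v → Four d₁ d₂ (g * v * g⁻¹) := by
    intro g v hg hv
    have hgj : g * (d₁ * d₂) * g⁻¹ = d₁ * d₂ := mul_inv_eq_iff_eq_mul.2 (mem_Cp.1 hg).eq
    rcases pair_cases S.hX.toCtx S.h1 S.h2 hg with ⟨e1, e2⟩ | ⟨e1, e2⟩ <;>
      rcases hv with rfl | rfl | rfl | rfl
    all_goals first
      | exact Or.inr (Or.inl e1)
      | exact Or.inr (Or.inl e2)
      | exact Or.inr (Or.inr (Or.inl e1))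
      | exact Or.inr (Or.inr (Or.inl e2))
      | exact Or.inr (Or.inr (Or.inr hgj))
      | exact Or.inl (by simp)
  refine S.mem_Op_of_trivial hc fun k => ?_
  set c' : Kp d₁ d₂ := ⟨c * k * c⁻¹, S.conj_mem_Kp hc k.2⟩ * k⁻¹ with hc'def
  have h1 : S.phi c' = 1 := by
    refine hKfaith c' fun x hx => ?_
    have hx1 : (k : G)⁻¹ * x * k ∈ S.Op := by
      have := S.Op_conj (Kp_le_Cp _ _ (inv_mem k.2)) hx
      rwa [inv_inv] at this
    have hy : c⁻¹ * ((k : G)⁻¹ * x * k) * c ∈ S.Op := by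
      have := S.Op_conj (inv_mem hc) hx1
      rwa [inv_inv] at this
    -- three applications of the hypothesis
    set y := c⁻¹ * ((k : G)⁻¹ * x * k) * c with hydef
    have hv : Four d₁ d₂ (c * y * c⁻¹ * y⁻¹) := h y hy
    have hu : Four d₁ d₂ (c * x * c⁻¹ * x⁻¹) := h x hx
    set v := c * y * c⁻¹ * y⁻¹ with hvdef
    have hvc : (k : G) * v * (k : G)⁻¹ = v := by rw [(S.four_central hv k).eq, mul_inv_cancel_right]
    have hyv : y = v⁻¹ * ((k : G)⁻¹ * x * k) := by rw [hvdef, hydef]; group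
    have key : (c' : G) * x * (c' : G)⁻¹ * x⁻¹ = c * v⁻¹ * c⁻¹ * (c * x * c⁻¹ * x⁻¹) := by
      calc (c' : G) * x * (c' : G)⁻¹ * x⁻¹ = c * ((k : G) * y * (k : G)⁻¹) * c⁻¹ * x⁻¹ := by
            rw [hc'def, hydef]; simp only [Subgroup.coe_mul, Subgroup.coe_inv, mul_inv_rev, inv_inv, mul_assoc]
        _ = c * (((k : G) * v * (k : G)⁻¹)⁻¹ * x) * c⁻¹ * x⁻¹ := by rw [hyv]; group
        _ = c * v⁻¹ * c⁻¹ * (c * x * c⁻¹ * x⁻¹) := by rw [hvc]; group
    rw [key]
    have hv' : Four d₁ d₂ v⁻¹ := S.four_iff.1 (inv_mem (S.four_iff.2 hv))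
    exact S.four_iff.1 (mul_mem (S.four_iff.2 (hfour hc hv')) (S.four_iff.2 hu))
  rwa [hc'def, map_mul, map_inv, mul_inv_eq_one] at h1

end Loc

end Cfsg.Agent.Lib.Fischer3T37
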