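import Cfsg.Agent.Lib.Fischer3T37.PairAut
import Cfsg.Agent.Lib.Fischer3T.AutBound
import Cfsg.Agent.Lib.M22Struct66.Main

/-!
# Type M(22): the centraliser of `conj (d₁ d₂)` in the automorphism group, given `|Aut G| = 2 |G|`
-/

set_option autoImplicit false
set_option linter.style.haveILetI false

namespace Cfsg.Agent.Lib.Fischer3T37

open Cfsg Cfsg.Agent.Lib.ThreeTransp Cfsg.Agent.Lib.M22Struct66 Cfsg.Agent.Lib.FischerPair

universe u

variable {G : Type u} [Group G] [Finite G] {D : Set G}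

/-- `F*(C_A(j))` is large extraspecial of order `2 ^ 11`, with quotient `Aut U₄(2)`. -/
theorem m22_aut_pair (hD : IsThreeTranspositionGroup D) (hprim : IsPrimitiveUnderConj D)
    (h22 : IsOfTypeM22 G D) (haut : Nat.card (MulAut G) = 2 * Nat.card G) {d₁ d₂ : G} (h₁ : d₁ ∈ D)
    (h₂ : d₂ ∈ D) (hne : d₁ ≠ d₂) (hc : Commute d₁ d₂) (Q : Subgroup (MulAut G))
    (hQ : Q = (generalizedFittingSubgroup ↥(autCent (d₁ * d₂))).map (autCent (d₁ * d₂)).subtype) :
    IsLargeExtraspecial Q ∧ Nat.card Q = 2 ^ 11 ∧ Q ≤ autCent (d₁ * d₂) ∧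
      ∃ (_ : (Q.subgroupOf (autCent (d₁ * d₂))).Normal) (F : Type) (_ : Field F) (_ : Fintype F),
        Fintype.card F = 4 ∧
          Nonempty (↥(autCent (d₁ * d₂)) ⧸ Q.subgroupOf (autCent (d₁ * d₂)) ≃* MulAut (Cfsg.PSU 4 F 2)) := by
  have hF := facts_of_m22 hD hprim h22
  obtain ⟨F, iF, iF', hX⟩ := exists_charted hD hprim h22
  obtain ⟨S⟩ := exists_setup hX hF h₁ (d₂ := d₂) ⟨h₂, hne.symm, hc⟩
  obtain ⟨hnO, ⟨eq4⟩⟩ := S.exists_quot_equiv
  haveI hsimp := isSimple_four hX.card
  haveI hfinP : Finite (Cfsg.PSU 4 F 2) :=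
    Nat.finite_of_card_ne_zero (by rw [natCard_PSU_four hX.card]; norm_num)
  have hna : ¬ IsMulCommutative (Cfsg.PSU 4 F 2) := fun h => by
    have hle : (⊤ : Subgroup (Cfsg.PSU 4 F 2)) ≤ Subgroup.center _ := fun x _ =>
      Subgroup.mem_center_iff.2 fun y => h.is_comm.comm y x
    rw [center_four hX.card, top_le_iff] at hle
    have h1 := natCard_PSU_four hX.card
    rw [← Subgroup.card_top, ← hle, Subgroup.card_bot] at h1
    norm_num at h1
  have X : Extension (d₁ * d₂) S.Op (Cfsg.PSU 4 F 2) :=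
    { center := hX.good.center
      le := S.Op_le.trans (Kp_le_Cp _ _)
      normal := hnO
      two := S.isPGroup_Op
      simple := hsimp
      nonabelian := hna
      finite := hfinP
      iso := eq4
      card_aut := haut
      orbit := fun α => by
        have hc' : Commute (α d₁) (α d₂) := hc.map α.toMonoidHom
        have hne' : α d₁ ≠ α d₂ := fun e => hne (α.injective e)
        have hm := fun {d : G} (hd : d ∈ D) => Fischer3T.aut_mem_D hD hprim h22 hF α hd
        refine isConj_iff.1 (hF.commProd_isConj 2 (by norm_num) (by norm_num) _ _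
          ⟨[d₁, d₂], by simp [hne], rfl, by simp [h₁, h₂], by simp [hc, hc.symm, Commute.refl], by simp⟩
          ⟨[α d₁, α d₂], by simp [hne'], rfl, by simp [hm h₁, hm h₂], by simp [hc', hc'.symm, Commute.refl],
            by simp⟩) }
  obtain ⟨Q₀, hQ₀, -, hcard₀, -, -⟩ := X.exists_kernel
  have A : Loc.Acts S Q₀ :=
    { carrier := hQ₀
      two := IsPGroup.of_card (n := 11) (by rw [hcard₀, S.natCard_Op]; norm_num)
      pres := fun φ d hd => Fischer3T.aut_mem_D hD hprim h22 hF φ hd }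
  have hmem : ∀ {q : MulAut G}, q ∈ kernelSet (d₁ * d₂) S.Op → q ∈ Q₀ := fun {q} h => by
    rw [← SetLike.mem_coe, hQ₀]; exact h
  have hK : ∀ e ∈ S.Op, Commute e d₁ ∧ Commute e d₂ := fun e he => mem_Kp.1 (S.Op_le he)
  have W : Pair (d₁ * d₂) d₁ d₂ S.Op :=
    { sq1 := mul_self S.set h₁
      sq2 := mul_self S.set h₂
      comm12 := hc
      ne12 := hne
      ne1 := ne_one S.set h₁
      prod := rfl
      mem1 := S.four_mem_Op (Or.inr (Or.inl rfl))
      mem2 := S.four_mem_Op (Or.inr (Or.inr (Or.inl rfl)))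
      cen1 := fun e he => (hK e he).1
      cen2 := fun e he => (hK e he).2
      sq := fun x hx => S.sq_two hx
      comm := fun x hx y hy => S.comm_two hx hy
      center := fun z hz hzc => by
        obtain ⟨hzK, hz1⟩ := S.mem_Op.1 hz
        exact S.four_of_central hz1 fun l hl => Subtype.ext (hzc l (S.mem_Op.2 ⟨l.2, hl⟩)).eq
      move := fun q hq x hx => (A.move (hmem hq) hx).imp inv_mul_eq_one.1
        (fun h => eq_mul_of_inv_mul_eq h) |>.imp Eq.symm id
      outer := fun q hq hno => by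
        rcases A.pair (hmem hq) with ⟨e1, -⟩ | ⟨e1, -⟩
        · exfalso
          obtain ⟨e, he, hqe⟩ := A.eq_conj
            (fun φ hφ hnb => Fischer3T.eq_one_or_conj_of_fix hD hprim h22 hF φ h₁ hφ hnb) (hmem hq) e1
          exact hno e he hqe
        · exact e1
      faith := fun c hc' h => Loc.faith S (mem_Cp.2 hc') h
      odd := fun K hK' h1 h2' h3 => Loc.odd_eq_bot S K hK' h1 h2' h3 }
  obtain ⟨hbig, hcard, hle, hn, he⟩ := X.main W Q hQ
  exact ⟨hbig, by rw [hcard, S.natCard_Op]; norm_num, hle, hn, F, iF, iF', hX.card, he⟩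

end Cfsg.Agent.Lib.Fischer3T37
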